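import Groth.Agent.HilbPtsRep.Cover
import Groth.Agent.DescLib.IdealDescent
import Mathlib

/-!
# Representability of the Hilbert functor of points
-/

set_option autoImplicit false
set_option linter.style.haveILetI false
set_option linter.unusedVariables false
set_option linter.overlappingInstances false
set_option backward.isDefEq.respectTransparency false

universe u
open CategoryTheory CategoryTheory.Limits AlgebraicGeometry TopologicalSpace Opposite

namespace Groth.Agent.HilbPtsRep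

variable {X S : Scheme.{u}} {f : X ⟶ S} {d : ℕ}

theorem isPullback_openCover {T : Scheme.{u}} (g : T ⟶ S) {U : Scheme.{u}} (v : U ⟶ T) :
    IsPullback (pullback.map f (v ≫ g) f g (𝟙 X) v (𝟙 S) (by simp) (by simp)) (pullback.snd f (v ≫ g))
      (pullback.snd f g) v := by
  have := HilbDLib.isPullback_XTmap f (Over.homMk v rfl : Over.mk (v ≫ g) ⟶ Over.mk g)
  exact this

set_option maxHeartbeats 2000000 in
/-- The Hilbert functor of points is a Zariski sheaf. -/
theorem isSheaf : Presieve.IsSheaf Scheme.zariskiTopology (functor f d) := by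
  rw [Precoverage.isSheaf_toGrothendieck_iff_of_isStableUnderBaseChange_of_small.{u}]
  intro T (𝒰 : Scheme.OpenCover.{u} T) x hx
  let e : ∀ i, Fam f d (𝒰.X i) := fun i => x (𝒰.f i) (.mk i)
  have hcompat : ∀ {W : Scheme.{u}} {i j : 𝒰.I₀} (a : W ⟶ 𝒰.X i) (b : W ⟶ 𝒰.X j), a ≫ 𝒰.f i = b ≫ 𝒰.f j →
      Fam.pull f d a (e i) = Fam.pull f d b (e j) := fun a b h => hx a b _ _ h
  let g : T ⟶ S := Scheme.Cover.glueMorphisms 𝒰 (fun i => (e i).1) (fun i j =>
    congrArg Sigma.fst (hcompat _ _ (pullback.condition (f := 𝒰.f i) (g := 𝒰.f j))))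
  have hg : ∀ i, 𝒰.f i ≫ g = (e i).1 := fun i => Scheme.Cover.ι_glueMorphisms _ _ _ i
  have hxe : ∀ i, x (𝒰.f i) (.mk i) = e i := fun _ => rfl
  clear_value g e
  let Q : 𝒰.I₀ → Scheme.{u} := fun i => pullback f (e i).1
  let q : ∀ i, Q i ⟶ pullback f g := fun i =>
    pullback.map _ _ _ _ (𝟙 X) (𝒰.f i) (𝟙 S) (by simp) (by simp [hg])
  have hq : ∀ i, IsPullback (q i) (pullback.snd f (e i).1) (pullback.snd f g) (𝒰.f i) := fun i => by
    refine IsPullback.of_bot ?_ (pullback.lift_snd _ _ _).symm (IsPullback.of_hasPullback f g).flip (v₁₁ := q i) |>.flip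
    rw [show q i ≫ pullback.fst f g = pullback.fst f (e i).1 from (pullback.lift_fst _ _ _).trans (Category.comp_id _), hg]
    exact (IsPullback.of_hasPullback f (e i).1).flip
  have hqmem : Presieve.ofArrows Q q ∈ Scheme.fpqcPrecoverage (pullback f g) := by
    refine Scheme.zariskiPrecoverage_le_fpqcPrecoverage _ ?_
    rw [Scheme.ofArrows_mem_precoverage_iff]
    refine ⟨fun z => ?_, fun i => MorphismProperty.of_isPullback (P := @IsOpenImmersion) (hq i).flip inferInstance⟩
    obtain ⟨i, y, hy⟩ := 𝒰.exists_eq (pullback.snd f g z)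
    obtain ⟨w, hw, -⟩ := Scheme.Pullback.exists_preimage_pullback (f := pullback.snd f g) (g := 𝒰.f i) z y hy.symm
    exact ⟨i, (hq i).isoPullback.inv w, by rw [← Scheme.Hom.comp_apply, IsPullback.isoPullback_inv_fst]; exact hw⟩
  have hov : ∀ i j, ((e i).2.1 : (Q i).IdealSheafData).comap (pullback.fst (q i) (q j)) =
      ((e j).2.1 : (Q j).IdealSheafData).comap (pullback.snd (q i) (q j)) := fun i j => by
    have hw := congrArg (· ≫ pullback.snd f g) (pullback.condition (f := q i) (g := q j))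
    have hw' := congrArg (· ≫ pullback.fst f g) (pullback.condition (f := q i) (g := q j))
    simp only [Category.assoc, (hq i).w, (hq j).w] at hw
    simp only [Category.assoc, q, pullback.lift_fst, Category.comp_id] at hw'
    let a := pullback.fst (q i) (q j) ≫ pullback.snd f (e i).1
    let b := pullback.snd (q i) (q j) ≫ pullback.snd f (e j).1
    have hab : a ≫ 𝒰.f i = b ≫ 𝒰.f j := by simpa [a, b] using hw
    let l : pullback (q i) (q j) ⟶ pullback f (a ≫ (e i).1) :=
      pullback.lift (pullback.fst (q i) (q j) ≫ pullback.fst f (e i).1) (𝟙 _) (by simp [a, pullback.condition])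
    have hb : a ≫ (e i).1 = b ≫ (e j).1 := congrArg Sigma.fst (hcompat a b hab)
    let l' : pullback (q i) (q j) ⟶ pullback f (b ≫ (e j).1) :=
      pullback.lift (pullback.fst (q i) (q j) ≫ pullback.fst f (e i).1) (𝟙 _) (by rw [← hb]; simp [a, pullback.condition])
    have h := Fam.comap_eq (hcompat a b hab) l l' ((pullback.lift_fst _ _ _).trans (pullback.lift_fst _ _ _).symm)
      ((pullback.lift_snd _ _ _).trans (pullback.lift_snd _ _ _).symm)
    simp only [Fam.pull, HilbDLib.pull_eq_comap, ← Scheme.IdealSheafData.comap_comp] at h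
    have e1 : l ≫ PicF.XTmap f (Over.homMk a rfl : Over.mk (a ≫ (e i).1) ⟶ Over.mk (e i).1) = pullback.fst (q i) (q j) := by
      apply pullback.hom_ext
      · show _ ≫ pullback.fst f (e i).1 = _ ≫ pullback.fst f (e i).1
        rw [Category.assoc, XTmap_homMk_fst, pullback.lift_fst]
      · show _ ≫ pullback.snd f (e i).1 = _ ≫ pullback.snd f (e i).1
        rw [Category.assoc, XTmap_homMk_snd, pullback.lift_snd_assoc, Category.id_comp]
    have e2 : l' ≫ PicF.XTmap f (Over.homMk b rfl : Over.mk (b ≫ (e j).1) ⟶ Over.mk (e j).1) = pullback.snd (q i) (q j) := by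
      apply pullback.hom_ext
      · show _ ≫ pullback.fst f (e j).1 = _ ≫ pullback.fst f (e j).1
        rw [Category.assoc, XTmap_homMk_fst, pullback.lift_fst]
        exact hw'
      · show _ ≫ pullback.snd f (e j).1 = _ ≫ pullback.snd f (e j).1
        rw [Category.assoc, XTmap_homMk_snd, pullback.lift_snd_assoc, Category.id_comp]
    rwa [e1, e2] at h
  obtain ⟨J, hJ, hJu⟩ := DescLib.existsUnique_descend_fpqc q hqmem (fun i => (e i).2.1) hov
  let π := J.subschemeι ≫ pullback.snd f g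
  have hloc : ∀ i, Mor2.IsFinLocFreeOfDeg d (pullback.snd π (𝒰.f i)) := fun i => by
    haveI : IsClosedImmersion (pullback.fst (q i) J.subschemeι) := inferInstance
    have hdeg := finLocFreeOfDeg_of_ker (e i) (pullback.fst (q i) J.subschemeι) (hJ i)
    have H : IsPullback (pullback.snd (q i) J.subschemeι) (pullback.fst (q i) J.subschemeι ≫ pullback.snd f (e i).1) π (𝒰.f i) :=
      (IsPullback.of_hasPullback (q i) J.subschemeι).flip.paste_vert (hq i)
    rw [← H.isoPullback_inv_snd]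
    obtain ⟨⟨a1, a2, a3⟩, a4⟩ := hdeg
    exact ⟨⟨inferInstance, inferInstance, inferInstance⟩, fun y => by
      rw [Scheme.Hom.finrank_comp_left_of_isIso]; exact a4 y⟩
  haveI : IsFinite π := IsZariskiLocalAtTarget.of_openCover (P := @IsFinite) 𝒰 fun i => (hloc i).1.1
  haveI : Flat π := IsZariskiLocalAtTarget.of_openCover (P := @Flat) 𝒰 fun i => (hloc i).1.2.1
  haveI : LocallyOfFinitePresentation π :=
    IsZariskiLocalAtTarget.of_openCover (P := @LocallyOfFinitePresentation) 𝒰 fun i => (hloc i).1.2.2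
  have hdeg : Mor2.IsFinLocFreeOfDeg d π := by
    refine ⟨⟨inferInstance, inferInstance, inferInstance⟩, fun y => ?_⟩
    obtain ⟨i, z, rfl⟩ := 𝒰.exists_eq y
    rw [← Scheme.Hom.finrank_pullback_snd]
    exact (hloc i).2 z
  refine ⟨(⟨g, J, hdeg⟩ : Fam f d T), ?_, ?_⟩
  · rintro W v ⟨i⟩
    refine Eq.trans ?_ (hxe i).symm
    show Fam.pull f d (𝒰.f i) (⟨g, J, hdeg⟩ : Fam f d T) = e i
    have hl : (𝒰.f i ≫ g) ≫ 𝟙 S = 𝟙 _ ≫ (e i).1 := by rw [Category.comp_id, Category.id_comp, hg]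
    refine Fam.ext' (e := Fam.pull f d (𝒰.f i) (⟨g, J, hdeg⟩ : Fam f d T)) (e' := e i) (hg i)
      (pullback.map f (𝒰.f i ≫ g) f (e i).1 (𝟙 X) (𝟙 _) (𝟙 S) (by simp) hl)
      ((pullback.lift_fst _ _ _).trans (Category.comp_id _)) ((pullback.lift_snd _ _ _).trans (Category.comp_id _)) ?_
    refine (HilbDLib.pull_eq_comap f (T' := Over.mk (𝒰.f i ≫ g)) (T := Over.mk g) (Over.homMk (𝒰.f i) rfl) J).trans ?_
    refine Eq.trans ?_ (congrArg (Scheme.IdealSheafData.comap · _) (hJ i))
    refine Eq.trans ?_ (Scheme.IdealSheafData.comap_comp J _ _)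
    refine comap_congr (pullback.hom_ext ?_ ?_) _
    · simp [PicF.XTmap, q, Fam.pull]
    · simp [PicF.XTmap, q, Fam.pull]
  · rintro ⟨g', J', hJ'⟩ hy
    have hy' : ∀ i, Fam.pull f d (𝒰.f i) ⟨g', J', hJ'⟩ = e i := fun i => (hy (𝒰.f i) (.mk i)).trans (hxe i)
    obtain rfl : g' = g := Scheme.Cover.hom_ext 𝒰 _ _ fun i => by
      rw [hg]; exact congrArg Sigma.fst (hy' i)
    refine congrArg (Sigma.mk g') (Subtype.ext (hJu J' fun i => ?_))
    have h := Fam.comap_eq (hy' i).symm (𝟙 _) (pullback.map _ _ _ _ (𝟙 X) (𝟙 _) (𝟙 S) (by simp) (by simp [Fam.pull, hg]))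
      (by simp) (by simp)
    simp only [Fam.pull, HilbDLib.pull_eq_comap, ← Scheme.IdealSheafData.comap_comp, Scheme.IdealSheafData.comap_id] at h
    refine Eq.trans (comap_congr (pullback.hom_ext ?_ ?_) _) h.symm
    · simp [PicF.XTmap, q]
    · simp [PicF.XTmap, q]

variable [IsSeparated f]

/-- The classifying map of a chart. -/
noncomputable def Chart.nat (c : Chart f d) : yoneda.obj c.H ⟶ functor f d := yonedaEquiv.symm c.univ

theorem Chart.nat_app (c : Chart f d) (T : Scheme.{u}) (ι : T ⟶ c.H) :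
    c.nat.app (op T) ι = Fam.pull f d ι c.univ := rfl

theorem Chart.loc_nat (c : Chart f d) {T : Scheme.{u}} (ι : T ⟶ c.H) : c.Loc (Fam.pull f d ι c.univ) = ⊤ := by
  rw [c.loc_pull, c.loc_univ]
  rfl

theorem Chart.isOpenImmersion_nat (c : Chart f d) : IsOpenImmersion.presheaf c.nat := by
  refine MorphismProperty.relative.of_exists fun T t => ?_
  let e : Fam f d T := yonedaEquiv t
  have ht : ∀ (W : Scheme.{u}) (h : W ⟶ T), t.app (op W) h = Fam.pull f d h e := fun W h =>
    (congrArg (fun t => t.app (op W) h) (yonedaEquiv.symm_apply_apply t)).symm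
  let Ω := c.Loc e
  have hΩ : c.Loc (Fam.pull f d Ω.ι e) = ⊤ := by
    rw [c.loc_pull]
    exact Scheme.Opens.ι_preimage_self Ω
  obtain ⟨ι₀, hι₀, -⟩ := c.existsUnique_pull_univ _ hΩ
  refine ⟨Ω, yoneda.map ι₀, Ω.ι, ?_, inferInstance⟩
  refine IsPullback.of_forall_isPullback_app fun W => (Types.isPullback_iff _ _ _ _).2 ⟨?_, ?_, ?_⟩
  · refine ConcreteCategory.hom_ext _ _ fun l => ?_
    show c.nat.app W (l ≫ ι₀) = t.app W (l ≫ Ω.ι)
    rw [ht, Fam.pull_comp]
    show Fam.pull f d (l ≫ ι₀) c.univ = _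
    rw [Fam.pull_comp, hι₀]
  · rintro l l' ⟨-, h⟩
    exact (cancel_mono Ω.ι).1 h
  · intro (ι : W.unop ⟶ c.H) (h : W.unop ⟶ T) hιh
    have hιh' : Fam.pull f d ι c.univ = Fam.pull f d h e := hιh.trans (ht _ h)
    have h1 := c.loc_nat ι
    rw [hιh', c.loc_pull] at h1
    have hrange : Set.range h ⊆ Set.range Ω.ι := by
      rw [Scheme.Opens.range_ι]
      rintro _ ⟨z, rfl⟩
      exact h1.ge (Set.mem_univ z)
    refine ⟨IsOpenImmersion.lift Ω.ι h hrange, ?_, IsOpenImmersion.lift_fac _ _ _⟩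
    show IsOpenImmersion.lift Ω.ι h hrange ≫ ι₀ = ι
    refine (c.existsUnique_pull_univ (Fam.pull f d h e) (by rw [c.loc_pull, h1])).unique ?_ hιh'
    rw [Fam.pull_comp, hι₀, ← Fam.pull_comp, IsOpenImmersion.lift_fac]

theorem isLocallySurjective
    (h : ∀ (s : S) (x : Fin d → X), (∀ i, f.base (x i) = s) → ∃ U : X.Opens, IsAffineOpen U ∧ ∀ i, x i ∈ U) :
    Presheaf.IsLocallySurjective Scheme.zariskiTopology (Sigma.desc fun c : Chart f d => c.nat) := by
  refine ⟨fun {T} e => ?_⟩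
  choose c hc using fun t => exists_mem_loc h e t
  let 𝒰 := T.openCoverOfIsOpenCover (fun t => (c t).Loc e)
    (TopologicalSpace.IsOpenCover.mk (top_le_iff.1 fun t _ => Opens.mem_iSup.2 ⟨t, hc t⟩))
  refine GrothendieckTopology.superset_covering _ ?_ (Scheme.Cover.mem_grothendieckTopology 𝒰)
  rw [Sieve.generate_le_iff]
  rintro W v ⟨t⟩
  have hΩ : (c t).Loc (Fam.pull f d ((c t).Loc e).ι e) = ⊤ := by
    rw [(c t).loc_pull]
    exact Scheme.Opens.ι_preimage_self _
  obtain ⟨ι, hι, -⟩ := (c t).existsUnique_pull_univ _ hΩ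
  refine ⟨(Sigma.ι (fun c : Chart f d => yoneda.obj c.H) (c t)).app _ ι, ?_⟩
  rw [← CategoryTheory.NatTrans.comp_app_apply, Sigma.ι_desc]
  exact hι

omit [IsSeparated f] in
theorem pull_eq_iff {H : Scheme.{u}} (u : Fam f d H) {T : Over S} (g : T ⟶ Over.mk u.1) (Z' : HilbD.Obj f d T) :
    HilbD.pull f g u.2.1 = Z'.1 ↔ Fam.pull f d g.left u = (⟨T.hom, Z'⟩ : Fam f d T.left) := by
  have hw := Over.w g
  obtain ⟨left, ⟨⟨⟩⟩, hom⟩ := T
  obtain ⟨gl, gr, gw⟩ := g
  change left ⟶ H at gl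
  obtain rfl : gl ≫ u.1 = hom := hw
  constructor
  · intro h
    exact congrArg (Sigma.mk (gl ≫ u.1)) (Subtype.ext h)
  · intro h
    exact congrArg Subtype.val (eq_of_heq (Sigma.mk.inj h).2)

/-- Representability of the Hilbert functor of points. -/
theorem representable
    (h : ∀ (s : S) (x : Fin d → X), (∀ i, f.base (x i) = s) → ∃ U : X.Opens, IsAffineOpen U ∧ ∀ i, x i ∈ U) :
    HilbD.Representable f d := by
  let F : Sheaf Scheme.zariskiTopology (Type u) := ⟨functor f d, (isSheaf_iff_isSheaf_of_type _ _).2 isSheaf⟩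
  haveI := isLocallySurjective h
  obtain ⟨H, ⟨r⟩⟩ := Scheme.LocalRepresentability.isRepresentable (F := F) (X := fun c : Chart f d => c.H)
    (f := fun c => c.nat) (fun c => c.isOpenImmersion_nat)
  let u : Fam f d H := r.homEquiv (𝟙 H)
  have hr : ∀ {T : Scheme.{u}} (m : T ⟶ H), r.homEquiv m = Fam.pull f d m u := fun m => r.homEquiv_eq m
  refine ⟨Over.mk u.1, u.2, fun T Z' => ?_⟩
  obtain ⟨m, hm, hmu⟩ := r.homEquiv.bijective.existsUnique (⟨T.hom, Z'⟩ : Fam f d T.left)
  rw [hr] at hm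
  have hw : m ≫ u.1 = T.hom := congrArg Sigma.fst hm
  refine ⟨Over.homMk m hw, ?_, fun g hg => Over.OverMorphism.ext ?_⟩
  · exact (pull_eq_iff u (Over.homMk m hw) Z').2 hm
  · exact hmu g.left ((hr g.left).trans ((pull_eq_iff u g Z').1 hg))

end Groth.Agent.HilbPtsRep
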