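import Groth.Agent.H23.CoverPush
import Mathlib

/-!
# The open locus where given functions generate a finite locally free family
-/

set_option autoImplicit false
set_option linter.style.haveILetI false
set_option linter.unusedVariables false
set_option linter.overlappingInstances false
set_option backward.isDefEq.respectTransparency false

universe u
open CategoryTheory CategoryTheory.Limits AlgebraicGeometry TopologicalSpace Opposite TensorProduct

namespace Groth.Agent.HilbPtsRep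

variable {X T Z : Scheme.{u}} {π : Z ⟶ T} {p : Z ⟶ X} {U : X.Opens} {d : ℕ}

/-- The combination of the functions `x i` with coefficients `a i`. -/
noncomputable def comb (π : Z ⟶ T) (p : Z ⟶ X) {U : X.Opens} (x : Fin d → Γ(X, U)) (W : T.Opens)
    (e : π ⁻¹ᵁ W ≤ p ⁻¹ᵁ U) (a : Fin d → Γ(T, W)) : Γ(Z, π ⁻¹ᵁ W) :=
  ∑ i, π.app W (a i) * p.appLE U (π ⁻¹ᵁ W) e (x i)

/-- The functions `x i` generate the sections over the affine open `W`, which lies in `G`. -/
structure GenOn (π : Z ⟶ T) (p : Z ⟶ X) {U : X.Opens} (x : Fin d → Γ(X, U)) (G : T.Opens) (W : T.Opens) : Prop where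
  affine : IsAffineOpen W
  le_G : W ≤ G
  le_U : π ⁻¹ᵁ W ≤ p ⁻¹ᵁ U
  surj : Function.Surjective (comb π p x W le_U)

/-- The open locus where the `x i` generate. -/
def locus (π : Z ⟶ T) (p : Z ⟶ X) {U : X.Opens} (x : Fin d → Γ(X, U)) (G : T.Opens) : T.Opens :=
  ⨆ W : {W : T.Opens // GenOn π p x G W}, W.1

theorem mem_locus {x : Fin d → Γ(X, U)} {G : T.Opens} {t : T} :
    t ∈ locus π p x G ↔ ∃ W, GenOn π p x G W ∧ t ∈ W := by
  rw [locus, Opens.mem_iSup]
  exact ⟨fun ⟨W, h⟩ => ⟨W.1, W.2, h⟩, fun ⟨W, h, h'⟩ => ⟨⟨W, h⟩, h'⟩⟩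

theorem le_preimage_of_le_locus {x : Fin d → Γ(X, U)} {G : T.Opens} {W : T.Opens} (h : W ≤ locus π p x G) :
    W ≤ G ∧ π ⁻¹ᵁ W ≤ p ⁻¹ᵁ U := by
  refine ⟨fun t ht => ?_, fun z hz => ?_⟩
  · obtain ⟨W', hW', ht'⟩ := mem_locus.1 (h ht)
    exact hW'.le_G ht'
  · obtain ⟨W', hW', hz'⟩ := mem_locus.1 (h (show π z ∈ W from hz))
    exact hW'.le_U hz'

theorem app_res {A B : Scheme.{u}} (f : A ⟶ B) {O O' : B.Opens} (h : O' ≤ O) (s : Γ(B, O)) :
    f.app O' (B.presheaf.map (homOfLE h).op s) = A.presheaf.map (homOfLE (f.preimage_mono h)).op (f.app O s) := by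
  rw [← CommRingCat.comp_apply, ← CommRingCat.comp_apply, f.naturality (homOfLE h).op]
  rfl

theorem res_comb (x : Fin d → Γ(X, U)) {W W' : T.Opens} (h : W' ≤ W) (e : π ⁻¹ᵁ W ≤ p ⁻¹ᵁ U)
    (e' : π ⁻¹ᵁ W' ≤ p ⁻¹ᵁ U) (a : Fin d → Γ(T, W)) :
    Z.presheaf.map (homOfLE (π.preimage_mono h)).op (comb π p x W e a) =
      comb π p x W' e' (fun i => T.presheaf.map (homOfLE h).op (a i)) := by
  simp only [comb, map_sum, map_mul, app_res π h]
  refine Finset.sum_congr rfl fun i _ => ?_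
  congr 1
  rw [← CommRingCat.comp_apply, Scheme.Hom.appLE_map]

variable {T' Z' : Scheme.{u}} {h : T' ⟶ T} {u : Z' ⟶ Z} {π' : Z' ⟶ T'}

theorem map_comb (x : Fin d → Γ(X, U)) (w : u ≫ π = π' ≫ h) {W : T.Opens} {W' : T'.Opens} (hW : W' ≤ h ⁻¹ᵁ W)
    (e : π ⁻¹ᵁ W ≤ p ⁻¹ᵁ U) (e' : π' ⁻¹ᵁ W' ≤ (u ≫ p) ⁻¹ᵁ U) (eu : π' ⁻¹ᵁ W' ≤ u ⁻¹ᵁ π ⁻¹ᵁ W)
    (a : Fin d → Γ(T, W)) :
    u.appLE (π ⁻¹ᵁ W) (π' ⁻¹ᵁ W') eu (comb π p x W e a) =
      comb π' (u ≫ p) x W' e' (fun i => h.appLE W W' hW (a i)) := by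
  simp only [comb, map_sum, map_mul]
  refine Finset.sum_congr rfl fun i _ => ?_
  congr 1
  · rw [Scheme.Hom.app_eq_appLE, Scheme.Hom.app_eq_appLE, ← CommRingCat.comp_apply, ← CommRingCat.comp_apply,
      Scheme.Hom.appLE_comp_appLE, Scheme.Hom.appLE_comp_appLE]
    simp only [w]
  · rw [← CommRingCat.comp_apply, Scheme.Hom.appLE_comp_appLE]

theorem preimage_le (w : u ≫ π = π' ≫ h) {W : T.Opens} {W' : T'.Opens} (hW : W' ≤ h ⁻¹ᵁ W) :
    π' ⁻¹ᵁ W' ≤ u ⁻¹ᵁ π ⁻¹ᵁ W := by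
  intro z hz
  show π (u z) ∈ W
  rw [← Scheme.Hom.comp_apply, w, Scheme.Hom.comp_apply]
  exact hW hz

/-- A pushout of commutative rings is generated by the two images. -/
theorem pushout_induction {A Q A' Q' : CommRingCat.{u}} {φ : A ⟶ Q} {ψ : A ⟶ A'} {ψ' : Q ⟶ Q'} {φ' : A' ⟶ Q'}
    (hpo : IsPushout φ ψ ψ' φ') (P : Q' → Prop) (h0 : P 0) (hadd : ∀ a b, P a → P b → P (a + b))
    (hmul : ∀ a q, P (φ' a * ψ' q)) (y : Q') : P y := by
  algebraize [φ.hom, ψ.hom, ψ'.hom, φ'.hom, (φ ≫ ψ').hom]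
  haveI : IsScalarTower A A' Q' := .of_algebraMap_eq fun r => congr($(hpo.w).hom r)
  haveI : IsScalarTower A Q Q' := .of_algebraMap_eq fun r => rfl
  haveI : Algebra.IsPushout A A' Q Q' := CommRingCat.isPushout_iff_isPushout.mp hpo.flip
  obtain ⟨t, rfl⟩ := (Algebra.IsPushout.equiv A A' Q Q').surjective y
  induction t using TensorProduct.induction_on with
  | zero => rw [map_zero]; exact h0
  | tmul a q => rw [Algebra.IsPushout.equiv_tmul]; exact hmul a q
  | add s t hs ht => rw [map_add]; exact hadd _ _ hs ht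

variable [IsAffineHom π]

theorem isPushout_app (H : IsPullback u π' π h) {W : T.Opens} {W' : T'.Opens} (hWa : IsAffineOpen W)
    (hWa' : IsAffineOpen W') (hW : W' ≤ h ⁻¹ᵁ W) :
    IsPushout (π.app W) (h.appLE W W' hW) (u.appLE (π ⁻¹ᵁ W) (π' ⁻¹ᵁ W') (preimage_le H.w hW)) (π'.app W') := by
  have hiso := isIso_pushoutSection_of_isAffineOpen H (US := W) (UT := W') (UX := π ⁻¹ᵁ W) (UY := π' ⁻¹ᵁ W')
    hW le_rfl (le_antisymm (le_inf (preimage_le H.w hW) le_rfl) inf_le_right) hWa hWa' (hWa.preimage π)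
  rw [isIso_pushoutSection_iff] at hiso
  simp only [Scheme.Hom.app_eq_appLE]
  exact hiso

theorem GenOn.of_isPullback {x : Fin d → Γ(X, U)} {G : T.Opens} {G' : T'.Opens} (H : IsPullback u π' π h)
    {W : T.Opens} {W' : T'.Opens} (hg : GenOn π p x G W) (hWa' : IsAffineOpen W') (hW : W' ≤ h ⁻¹ᵁ W)
    (hG : h ⁻¹ᵁ G ≤ G') : GenOn π' (u ≫ p) x G' W' := by
  have eu := preimage_le H.w hW
  have e' : π' ⁻¹ᵁ W' ≤ (u ≫ p) ⁻¹ᵁ U := eu.trans (u.preimage_mono hg.le_U)
  refine ⟨hWa', hW.trans ((h.preimage_mono hg.le_G).trans hG), e', fun y => ?_⟩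
  refine pushout_induction (isPushout_app H hg.affine hWa' hW) (fun y => ∃ a, comb π' (u ≫ p) x W' e' a = y)
    ⟨fun _ => 0, by simp [comb]⟩ ?_ ?_ y
  · rintro _ _ ⟨a, rfl⟩ ⟨b, rfl⟩
    exact ⟨a + b, by simp [comb, add_mul, Finset.sum_add_distrib]⟩
  · intro a q
    obtain ⟨c, rfl⟩ := hg.surj q
    refine ⟨fun i => a * h.appLE W W' hW (c i), ?_⟩
    rw [map_comb x H.w hW hg.le_U e' eu, comb, comb, Finset.mul_sum]
    exact Finset.sum_congr rfl fun i _ => by rw [map_mul, mul_assoc]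

theorem GenOn.restrict {x : Fin d → Γ(X, U)} {G : T.Opens} {W W' : T.Opens} (hg : GenOn π p x G W)
    (hWa' : IsAffineOpen W') (hW : W' ≤ W) : GenOn π p x G W' := by
  have := hg.of_isPullback (h := 𝟙 T) (u := 𝟙 Z) (π' := π) (G' := G)
    (IsPullback.of_horiz_isIso ⟨by simp⟩) hWa' (by simpa using hW) (by simp)
  rwa [Category.id_comp] at this

/-- Nakayama: if the base change of a finite cokernel at a prime vanishes, it vanishes near the prime. -/
theorem exists_smul_mem {A A' M : Type u} [CommRing A] [CommRing A'] [Algebra A A'] [AddCommGroup M] [Module A M]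
    [Module.Finite A M] (N : Submodule A M) (q : PrimeSpectrum A')
    (h : ∀ m : M, (1 : A') ⊗ₜ[A] N.mkQ m = 0) :
    ∃ r ∉ (q.comap (algebraMap A A')).asIdeal, ∀ m : M, r • m ∈ N := by
  set P := q.comap (algebraMap A A')
  by_contra! hc
  have hmem : P ∈ Module.support A (M ⧸ N) := by
    rw [Module.support_eq_zeroLocus]
    intro r hr
    by_contra hrP
    obtain ⟨m, hm⟩ := hc r hrP
    exact hm ((Submodule.Quotient.mk_eq_zero N).1
      ((Submodule.Quotient.mk_smul N r m).trans (Module.mem_annihilator.1 hr (N.mkQ m))))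
  haveI : Nontrivial (P.asIdeal.ResidueField ⊗[A] (M ⧸ N)) :=
    Module.mem_support_iff_nontrivial_residueField_tensorProduct P |>.1 hmem
  obtain ⟨z, hz⟩ := exists_ne (0 : P.asIdeal.ResidueField ⊗[A] (M ⧸ N))
  obtain ⟨φ, hφ⟩ : ∃ φ : P.asIdeal.ResidueField ⊗[A] (M ⧸ N) →ₗ[P.asIdeal.ResidueField] P.asIdeal.ResidueField, φ z ≠ 0 := by
    by_contra! hc
    exact hz ((Module.forall_dual_apply_eq_zero_iff _ z).1 hc)
  let κ := Ideal.ResidueField.map P.asIdeal q.asIdeal (algebraMap A A') rfl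
  have hκ : ∀ a : A, κ (algebraMap A P.asIdeal.ResidueField a) = algebraMap A' q.asIdeal.ResidueField (algebraMap A A' a) :=
    Ideal.ResidueField.map_algebraMap _ _ _ _
  let f : M ⧸ N →+ q.asIdeal.ResidueField :=
    { toFun := fun m => κ (φ (1 ⊗ₜ m))
      map_zero' := by simp
      map_add' := fun a b => by simp [TensorProduct.tmul_add] }
  have hf : ∀ (a : A) (m : M ⧸ N), f (a • m) = algebraMap A' q.asIdeal.ResidueField (algebraMap A A' a) * f m := by
    intro a m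
    show κ (φ (1 ⊗ₜ (a • m))) = _ * κ (φ (1 ⊗ₜ m))
    rw [← hκ, ← map_mul]
    congr 1
    rw [TensorProduct.tmul_smul, ← algebraMap_smul P.asIdeal.ResidueField a, map_smul, smul_eq_mul]
  let F : A' ⊗[A] (M ⧸ N) →+ q.asIdeal.ResidueField :=
    TensorProduct.liftAddHom
      { toFun := fun c => (AddMonoidHom.mulLeft (algebraMap A' q.asIdeal.ResidueField c)).comp f
        map_zero' := by ext; simp
        map_add' := fun c c' => by ext; simp [add_mul] }
      (fun a c m => by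
        simp only [AddMonoidHom.coe_mk, ZeroHom.coe_mk, AddMonoidHom.coe_comp, AddMonoidHom.coe_mulLeft,
          Function.comp_apply, hf, Algebra.smul_def, map_mul]
        ring)
  have hf0 : ∀ m, f m = 0 := fun m => by
    obtain ⟨m, rfl⟩ := N.mkQ_surjective m
    have := congrArg F (h m)
    rw [map_zero] at this
    simpa [F] using this
  apply hφ
  have key : ∀ w, φ w = 0 := fun w => by
    induction w using TensorProduct.induction_on with
    | zero => exact map_zero φ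
    | tmul c m =>
      have h1 : φ (1 ⊗ₜ m) = 0 := κ.injective ((hf0 m).trans (map_zero κ).symm)
      rw [← mul_one c, ← smul_eq_mul, ← TensorProduct.smul_tmul', map_smul, h1, smul_zero]
    | add s t hs ht => rw [map_add, hs, ht, add_zero]
  exact key z

theorem genOn_basicOpen {x : Fin d → Γ(X, U)} {G : T.Opens} {W : T.Opens} (hW : IsAffineOpen W) (hG : W ≤ G)
    (eW : π ⁻¹ᵁ W ≤ p ⁻¹ᵁ U) (r : Γ(T, W))
    (hrN : letI := (π.app W).hom.toAlgebra
      ∀ m : Γ(Z, π ⁻¹ᵁ W), r • m ∈ Submodule.span Γ(T, W) (Set.range fun i => p.appLE U (π ⁻¹ᵁ W) eW (x i))) :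
    GenOn π p x G (T.basicOpen r) := by
  letI : Algebra Γ(T, W) Γ(Z, π ⁻¹ᵁ W) := (π.app W).hom.toAlgebra
  have hle2 : T.basicOpen r ≤ W := T.basicOpen_le r
  refine ⟨hW.basicOpen r, hle2.trans hG, (π.preimage_mono hle2).trans eW, fun y => ?_⟩
  have e2 := (π.preimage_mono hle2).trans eW
  refine pushout_induction (isPushout_app (IsPullback.of_horiz_isIso (f := π) (g := 𝟙 T) ⟨by simp⟩ :
    IsPullback (𝟙 Z) π π (𝟙 T)) hW (hW.basicOpen r) (by simpa using hle2)) (fun y => ∃ a, comb π p x _ e2 a = y)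
    ⟨fun _ => 0, by simp [comb]⟩ ?_ ?_ y
  · rintro _ _ ⟨a, rfl⟩ ⟨b, rfl⟩
    exact ⟨a + b, by simp [comb, add_mul, Finset.sum_add_distrib]⟩
  · intro a q
    obtain ⟨c, hc⟩ := Submodule.mem_span_range_iff_exists_fun _ |>.1 (hrN q)
    have hu : IsUnit (T.presheaf.map (homOfLE hle2).op r) := T.toRingedSpace.isUnit_res_basicOpen r
    obtain ⟨v, hv⟩ := hu.exists_left_inv
    refine ⟨fun i => a * v * T.presheaf.map (homOfLE hle2).op (c i), ?_⟩
    have h1 := congrArg (Z.presheaf.map (homOfLE (π.preimage_mono hle2)).op) hc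
    have h2 : ∀ (b : Γ(T, W)) (z : Γ(Z, π ⁻¹ᵁ W)),
        Z.presheaf.map (homOfLE (π.preimage_mono hle2)).op (b • z) =
          π.app _ (T.presheaf.map (homOfLE hle2).op b) * Z.presheaf.map (homOfLE (π.preimage_mono hle2)).op z := by
      intro b z
      rw [Algebra.smul_def, map_mul]
      congr 1
      exact (app_res π hle2 b).symm
    rw [map_sum] at h1
    simp only [h2] at h1
    have h3 : ∀ i, Z.presheaf.map (homOfLE (π.preimage_mono hle2)).op (p.appLE U (π ⁻¹ᵁ W) eW (x i)) =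
        p.appLE U (π ⁻¹ᵁ T.basicOpen r) e2 (x i) := fun i => by
      rw [← CommRingCat.comp_apply, Scheme.Hom.appLE_map]
    simp only [h3] at h1
    have e4 : (𝟙 Z : Z ⟶ Z).appLE (π ⁻¹ᵁ W) (π ⁻¹ᵁ T.basicOpen r) (by simpa using π.preimage_mono hle2) q =
        Z.presheaf.map (homOfLE (π.preimage_mono hle2)).op q := by
      rw [Scheme.Hom.appLE, Scheme.Hom.id_app, Category.id_comp]
    rw [e4, comb]
    simp only [map_mul, mul_assoc]
    rw [← Finset.mul_sum, ← Finset.mul_sum, h1, ← mul_assoc (π.app _ v), ← map_mul (π.app _).hom, hv, map_one, one_mul]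

theorem mem_locus_of_isPullback [UniversallyClosed π] [IsFinite π] {x : Fin d → Γ(X, U)} {G : T.Opens}
    {G' : T'.Opens} (H : IsPullback u π' π h) (hG : G' ≤ h ⁻¹ᵁ G) {t : T'}
    (ht : t ∈ locus π' (u ≫ p) x G') : h t ∈ locus π p x G := by
  obtain ⟨W', hW', htW'⟩ := mem_locus.1 ht
  have hz : ∀ z : Z, π z = h t → p z ∈ U := by
    intro z hz
    obtain ⟨y, hy₁, hy₂⟩ := Scheme.Pullback.exists_preimage_pullback (f := π) (g := h) z t hz
    have h1 : u (H.isoPullback.inv y) = z := by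
      rw [← Scheme.Hom.comp_apply, IsPullback.isoPullback_inv_fst]; exact hy₁
    have h2 : π' (H.isoPullback.inv y) = t := by
      rw [← Scheme.Hom.comp_apply, IsPullback.isoPullback_inv_snd]; exact hy₂
    rw [← h1, ← Scheme.Hom.comp_apply]
    exact hW'.le_U (show π' (H.isoPullback.inv y) ∈ W' by rw [h2]; exact htW')
  let O : T.Opens := ⟨(π '' ((p ⁻¹ᵁ U : Z.Opens) : Set Z)ᶜ)ᶜ,
    (π.isClosedMap _ (p ⁻¹ᵁ U).isOpen.isClosed_compl).isOpen_compl⟩
  have hO : h t ∈ O := fun ⟨z, hz1, hz2⟩ => hz1 (hz z hz2)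
  have hOU : π ⁻¹ᵁ O ≤ p ⁻¹ᵁ U := fun z hz' => by
    by_contra hc
    exact hz' ⟨z, hc, rfl⟩
  obtain ⟨W, hW, htW, hWle⟩ := exists_isAffineOpen_mem_and_subset (x := h t) (U := O ⊓ G)
    ⟨hO, hG (hW'.le_G htW')⟩
  have eW : π ⁻¹ᵁ W ≤ p ⁻¹ᵁ U := (π.preimage_mono (hWle.trans inf_le_left)).trans hOU
  obtain ⟨W'', hW'', htW'', hW''le⟩ := exists_isAffineOpen_mem_and_subset (x := t) (U := W' ⊓ h ⁻¹ᵁ W)
    ⟨htW', htW⟩
  haveI : IsAffineHom π' := MorphismProperty.of_isPullback (P := @IsAffineHom) H inferInstance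
  have hg'' := hW'.restrict hW'' (hW''le.trans inf_le_left)
  have hle : W'' ≤ h ⁻¹ᵁ W := hW''le.trans inf_le_right
  have eu := preimage_le H.w hle
  letI : Algebra Γ(T, W) Γ(Z, π ⁻¹ᵁ W) := (π.app W).hom.toAlgebra
  letI : Algebra Γ(T, W) Γ(T', W'') := (h.appLE W W'' hle).hom.toAlgebra
  haveI : Module.Finite Γ(T, W) Γ(Z, π ⁻¹ᵁ W) := π.finite_app W hW
  letI : Algebra Γ(Z, π ⁻¹ᵁ W) Γ(Z', π' ⁻¹ᵁ W'') := (u.appLE _ _ eu).hom.toAlgebra
  letI : Algebra Γ(T', W'') Γ(Z', π' ⁻¹ᵁ W'') := (π'.app W'').hom.toAlgebra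
  letI : Algebra Γ(T, W) Γ(Z', π' ⁻¹ᵁ W'') := (π.app W ≫ u.appLE _ _ eu).hom.toAlgebra
  have hpo := isPushout_app H hW hW'' hle
  haveI : IsScalarTower Γ(T, W) Γ(T', W'') Γ(Z', π' ⁻¹ᵁ W'') := .of_algebraMap_eq fun r => congr($(hpo.w).hom r)
  haveI : IsScalarTower Γ(T, W) Γ(Z, π ⁻¹ᵁ W) Γ(Z', π' ⁻¹ᵁ W'') := .of_algebraMap_eq fun r => rfl
  haveI : Algebra.IsPushout Γ(T, W) Γ(T', W'') Γ(Z, π ⁻¹ᵁ W) Γ(Z', π' ⁻¹ᵁ W'') :=
    CommRingCat.isPushout_iff_isPushout.mp hpo.flip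
  let N : Submodule Γ(T, W) Γ(Z, π ⁻¹ᵁ W) := Submodule.span _ (Set.range fun i => p.appLE U (π ⁻¹ᵁ W) eW (x i))
  let ε := Algebra.IsPushout.equiv Γ(T, W) Γ(T', W'') Γ(Z, π ⁻¹ᵁ W) Γ(Z', π' ⁻¹ᵁ W'')
  have h0 : ∀ m, (1 : Γ(T', W'')) ⊗ₜ[Γ(T, W)] N.mkQ m = 0 := by
    intro m
    obtain ⟨a, ha⟩ := hg''.surj (ε ((1 : Γ(T', W'')) ⊗ₜ m))
    have key : (1 : Γ(T', W'')) ⊗ₜ[Γ(T, W)] m = ∑ i, a i ⊗ₜ p.appLE U (π ⁻¹ᵁ W) eW (x i) := by
      apply ε.injective
      rw [← ha, map_sum, comb]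
      refine Finset.sum_congr rfl fun i _ => ?_
      rw [Algebra.IsPushout.equiv_tmul]
      show _ = π'.app W'' (a i) * u.appLE _ _ eu (p.appLE U _ eW (x i))
      rw [← CommRingCat.comp_apply (p.appLE U _ eW), Scheme.Hom.appLE_comp_appLE]
    have := congrArg (N.mkQ.lTensor Γ(T', W'')) key
    rw [LinearMap.lTensor_tmul, map_sum] at this
    rw [this]
    refine Finset.sum_eq_zero fun i _ => ?_
    rw [LinearMap.lTensor_tmul, Submodule.mkQ_apply,
      (Submodule.Quotient.mk_eq_zero N).2 (Submodule.subset_span ⟨i, rfl⟩), TensorProduct.tmul_zero]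
  obtain ⟨r, hr, hrN⟩ := exists_smul_mem N (hW''.primeIdealOf ⟨t, htW''⟩) h0
  have hWr : IsAffineOpen (T.basicOpen r) := hW.basicOpen r
  have htr : h t ∈ T.basicOpen r := by
    have hq : t ∈ T'.basicOpen (h.appLE W W'' hle r) := by
      have := hW''.fromSpec_preimage_basicOpen (h.appLE W W'' hle r)
      rw [show t = hW''.fromSpec (hW''.primeIdealOf ⟨t, htW''⟩) from (hW''.fromSpec_primeIdealOf ⟨t, htW''⟩).symm]
      show hW''.primeIdealOf ⟨t, htW''⟩ ∈ hW''.fromSpec ⁻¹ᵁ T'.basicOpen (h.appLE W W'' hle r)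
      rw [this]
      exact hr
    rw [Scheme.basicOpen_appLE] at hq
    exact hq.2
  exact mem_locus.2 ⟨T.basicOpen r, genOn_basicOpen hW (hWle.trans inf_le_right) eW r hrN, htr⟩

theorem locus_of_isPullback [UniversallyClosed π] [IsFinite π] {x : Fin d → Γ(X, U)} {G : T.Opens}
    {G' : T'.Opens} (H : IsPullback u π' π h) (hG : G' = h ⁻¹ᵁ G) :
    locus π' (u ≫ p) x G' = h ⁻¹ᵁ locus π p x G := by
  refine le_antisymm (fun t ht => mem_locus_of_isPullback H hG.le ht) fun t ht => ?_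
  obtain ⟨W, hW, htW⟩ := mem_locus.1 (show h t ∈ locus π p x G from ht)
  obtain ⟨W', hW', htW', hle⟩ := exists_isAffineOpen_mem_and_subset (x := t) (U := h ⁻¹ᵁ W) htW
  exact mem_locus.2 ⟨W', hW.of_isPullback H hW' hle hG.ge, htW'⟩

section Basis

variable [IsFinite π] [Flat π] [LocallyOfFinitePresentation π]

theorem rankAtStalk_app {W : T.Opens} (hW : IsAffineOpen W) (hd : ∀ t, π.finrank t = d) :
    letI := (π.app W).hom.toAlgebra
    ∀ P, Module.rankAtStalk (R := Γ(T, W)) Γ(Z, π ⁻¹ᵁ W) P = d := by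
  intro P
  have hy : hW.fromSpec P ∈ W := hW.range_fromSpec.le ⟨P, rfl⟩
  have h := H23.CoverPush.finrank_eq π hW hy
  rw [hd, show hW.primeIdealOf ⟨hW.fromSpec P, hy⟩ = P from
    hW.fromSpec.isOpenEmbedding.injective (hW.fromSpec_primeIdealOf _)] at h
  exact h.symm

theorem GenOn.bijective {x : Fin d → Γ(X, U)} {G W : T.Opens} (hg : GenOn π p x G W)
    (hd : ∀ t, π.finrank t = d) : Function.Bijective (comb π p x W hg.le_U) := by
  refine ⟨?_, hg.surj⟩
  letI : Algebra Γ(T, W) Γ(Z, π ⁻¹ᵁ W) := (π.app W).hom.toAlgebra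
  haveI : Module.Finite Γ(T, W) Γ(Z, π ⁻¹ᵁ W) := π.finite_app W hg.affine
  haveI : Module.Flat Γ(T, W) Γ(Z, π ⁻¹ᵁ W) := by
    have h1 : (π.app W).hom.Flat := by
      rw [Scheme.Hom.app_eq_appLE]; exact π.flat_appLE hg.affine (hg.affine.preimage π) le_rfl
    exact h1
  haveI : Algebra.FinitePresentation Γ(T, W) Γ(Z, π ⁻¹ᵁ W) := by
    have h1 : (π.app W).hom.FinitePresentation := by
      rw [Scheme.Hom.app_eq_appLE]; exact π.finitePresentation_appLE hg.affine (hg.affine.preimage π) le_rfl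
    exact h1
  haveI : Module.FinitePresentation Γ(T, W) Γ(Z, π ⁻¹ᵁ W) := .of_finite_of_finitePresentation _ _
  haveI : Module.Projective Γ(T, W) Γ(Z, π ⁻¹ᵁ W) := Module.Flat.projective_of_finitePresentation
  let Φ : (Fin d → Γ(T, W)) →ₗ[Γ(T, W)] Γ(Z, π ⁻¹ᵁ W) :=
    { toFun := comb π p x W hg.le_U
      map_add' := fun a b => by simp [comb, add_mul, Finset.sum_add_distrib]
      map_smul' := fun c a => by
        simp only [comb, Pi.smul_apply, smul_eq_mul, map_mul, Finset.mul_sum, RingHom.id_apply, Algebra.smul_def, mul_assoc]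
        rfl }
  obtain ⟨σ, hσ⟩ := Module.projective_lifting_property Φ LinearMap.id hg.surj
  have hp : IsCompl (LinearMap.range σ) (LinearMap.ker Φ) := LinearMap.isCompl_of_proj
    (f := σ.rangeRestrict ∘ₗ Φ) (fun z => by
      obtain ⟨w, hw⟩ := z.2
      ext1
      show σ (Φ z.1) = z.1
      rw [← hw, show Φ (σ w) = w from LinearMap.congr_fun hσ w]) |> fun h => by
      convert h using 1
      ext z
      simp only [LinearMap.mem_ker, LinearMap.comp_apply]
      refine ⟨fun hz => by ext1; show σ (Φ z) = 0; rw [hz, map_zero], fun hz => ?_⟩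
      have h1 : Φ (σ (Φ z)) = 0 := by rw [show σ (Φ z) = 0 from congrArg Subtype.val hz, map_zero]
      rwa [show Φ (σ (Φ z)) = Φ z from LinearMap.congr_fun hσ (Φ z)] at h1
  haveI : Module.Projective Γ(T, W) (LinearMap.range σ) :=
    Module.Projective.of_equiv (LinearEquiv.ofInjective σ (fun a b hab => by
      have := congrArg Φ hab
      rwa [show Φ (σ a) = a from LinearMap.congr_fun hσ a, show Φ (σ b) = b from LinearMap.congr_fun hσ b] at this))
  let e := Submodule.prodEquivOfIsCompl _ _ hp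
  haveI : Module.Projective Γ(T, W) (LinearMap.ker Φ) := Module.Projective.of_split
    (LinearMap.ker Φ).subtype ((LinearMap.ker Φ).linearProjOfIsCompl (LinearMap.range σ) hp.symm)
    (Submodule.linearProjOfIsCompl_comp_subtype hp.symm)
  haveI : Module.Finite Γ(T, W) (LinearMap.ker Φ) := Module.Finite.of_surjective
    ((LinearMap.ker Φ).linearProjOfIsCompl (LinearMap.range σ) hp.symm)
    (fun z => ⟨z, Submodule.linearProjOfIsCompl_apply_left hp.symm z⟩)
  haveI : Module.Finite Γ(T, W) (LinearMap.range σ) := Module.Finite.range σ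
  have hr : Module.rankAtStalk (R := Γ(T, W)) (LinearMap.ker Φ) = 0 := by
    ext P
    have h1 := congrFun (Module.rankAtStalk_eq_of_equiv e) P
    rw [Module.rankAtStalk_prod] at h1
    have h2 : Module.rankAtStalk (R := Γ(T, W)) (LinearMap.range σ) P = d := by
      rw [← Module.rankAtStalk_eq_of_equiv (LinearEquiv.ofInjective σ (fun a b hab => by
        have := congrArg Φ hab
        rwa [show Φ (σ a) = a from LinearMap.congr_fun hσ a, show Φ (σ b) = b from LinearMap.congr_fun hσ b] at this))]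
      exact rankAtStalk_app hg.affine hd P
    haveI : Nontrivial Γ(T, W) := P.nontrivial
    have h3 : Module.rankAtStalk (R := Γ(T, W)) (Fin d → Γ(T, W)) P = d := by
      rw [Module.rankAtStalk_eq_finrank_of_free, Pi.natCast_apply, Nat.cast_id, Module.finrank_fin_fun]
    simp only [Pi.add_apply, h2, h3] at h1
    simp only [Pi.zero_apply]
    omega
  have := Module.rankAtStalk_eq_zero_iff_subsingleton.1 hr
  exact fun a b hab => sub_eq_zero.1 <| by
    have hm : a - b ∈ LinearMap.ker Φ := by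
      rw [LinearMap.mem_ker, map_sub, show Φ a = Φ b from hab, sub_self]
    exact congrArg Subtype.val (Subsingleton.elim (⟨a - b, hm⟩ : LinearMap.ker Φ) 0)

/-- Over an open inside the locus the sections have the `x i` as a basis. -/
theorem bijective_comb {x : Fin d → Γ(X, U)} {G W : T.Opens} (hd : ∀ t, π.finrank t = d)
    (hW : W ≤ locus π p x G) : Function.Bijective (comb π p x W (le_preimage_of_le_locus hW).2) := by
  have hinj : ∀ (O : T.Opens) (hO : O ≤ locus π p x G), Function.Injective (comb π p x O (le_preimage_of_le_locus hO).2) := by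
    intro O hO a b hab
    funext i
    let I := {W : T.Opens // GenOn π p x G W ∧ W ≤ O}
    refine TopCat.Sheaf.eq_of_locally_eq' (F := T.sheaf) (fun W : I => W.1) O (fun W => homOfLE W.2.2)
      (fun t ht => ?_) _ _ fun W => ?_
    · obtain ⟨W, hW, htW⟩ := mem_locus.1 (hO ht)
      obtain ⟨W', hW', htW', hle⟩ := exists_isAffineOpen_mem_and_subset (x := t) (U := W ⊓ O) ⟨htW, ht⟩
      exact Opens.mem_iSup.2 ⟨⟨W', hW.restrict hW' (hle.trans inf_le_left), hle.trans inf_le_right⟩, htW'⟩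
    · have := congrArg (Z.presheaf.map (homOfLE (π.preimage_mono W.2.2)).op) hab
      rw [res_comb x W.2.2 _ W.2.1.le_U, res_comb x W.2.2 _ W.2.1.le_U] at this
      exact congrFun ((W.2.1.bijective hd).1 this) i
  refine ⟨hinj W hW, fun y => ?_⟩
  let I := {O : T.Opens // GenOn π p x G O ∧ O ≤ W}
  choose a ha using fun O : I => O.2.1.surj (Z.presheaf.map (homOfLE (π.preimage_mono O.2.2)).op y)
  have hcov : W ≤ ⨆ O : I, O.1 := fun t ht => by
    obtain ⟨O, hO, htO⟩ := mem_locus.1 (hW ht)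
    obtain ⟨O', hO', htO', hle⟩ := exists_isAffineOpen_mem_and_subset (x := t) (U := O ⊓ W) ⟨htO, ht⟩
    exact Opens.mem_iSup.2 ⟨⟨O', hO.restrict hO' (hle.trans inf_le_left), hle.trans inf_le_right⟩, htO'⟩
  have hcomp : ∀ O₁ O₂ : I, (fun i => T.presheaf.map (homOfLE (inf_le_left : O₁.1 ⊓ O₂.1 ≤ O₁.1)).op (a O₁ i)) =
      fun i => T.presheaf.map (homOfLE (inf_le_right : O₁.1 ⊓ O₂.1 ≤ O₂.1)).op (a O₂ i) := by
    intro O₁ O₂
    have hle : O₁.1 ⊓ O₂.1 ≤ locus π p x G := (inf_le_left.trans O₁.2.2).trans hW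
    apply hinj _ hle
    rw [← res_comb x inf_le_left O₁.2.1.le_U, ← res_comb x inf_le_right O₂.2.1.le_U, ha, ha,
      ← CommRingCat.comp_apply, ← CommRingCat.comp_apply, ← Functor.map_comp, ← Functor.map_comp]
    rfl
  choose s hs hs' using fun i => TopCat.Sheaf.existsUnique_gluing' (F := T.sheaf) (fun O : I => O.1) W
    (fun O => homOfLE O.2.2) hcov (fun O => a O i) (fun O₁ O₂ => congrFun (hcomp O₁ O₂) i)
  refine ⟨s, TopCat.Sheaf.eq_of_locally_eq' (F := Z.sheaf) (fun O : I => π ⁻¹ᵁ O.1) (π ⁻¹ᵁ W)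
    (fun O => homOfLE (π.preimage_mono O.2.2)) (fun z hz => ?_) _ _ fun O => ?_⟩
  · obtain ⟨O, hzO⟩ := Opens.mem_iSup.1 (hcov (show π z ∈ W from hz))
    exact Opens.mem_iSup.2 ⟨O, hzO⟩
  · show Z.presheaf.map _ (comb π p x W _ s) = Z.presheaf.map _ y
    rw [res_comb x O.2.2 _ O.2.1.le_U]
    refine (congrArg (comb π p x O.1 O.2.1.le_U) (funext fun i => ?_)).trans (ha O)
    exact hs i O

end Basis

end Groth.Agent.HilbPtsRep
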