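import Mathlib

/-!
# The coordinate ring of a chart of the Hilbert scheme of points
-/

set_option autoImplicit false
set_option linter.style.haveILetI false
set_option linter.unusedVariables false
set_option backward.isDefEq.respectTransparency false

universe u
open TensorProduct

namespace Groth.Agent.HilbPtsRep.Alg

noncomputable section

variable (R : Type u) [CommRing R] (B : Type u) [CommRing B] [Algebra R B] {d : ℕ} (x : Fin d → B)

open MvPolynomial in
/-- The relations saying that the matrix of multiplication is consistent. -/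
def rels : Set (MvPolynomial (Fin d × B) R) :=
  (Set.range fun t : Fin d × B × B => X (t.1, t.2.1 + t.2.2) - X (t.1, t.2.1) - X (t.1, t.2.2)) ∪
  (Set.range fun t : Fin d × R × B => X (t.1, t.2.1 • t.2.2) - C t.2.1 * X (t.1, t.2.2)) ∪
  (Set.range fun t : Fin d × Fin d => X (t.1, x t.2) - if t.1 = t.2 then 1 else 0) ∪
  (Set.range fun t : Fin d × B × B => X (t.1, t.2.1 * t.2.2) - ∑ j, X (j, t.2.2) * X (t.1, t.2.1 * x j))

/-- The ideal of relations. -/
def J : Ideal (MvPolynomial (Fin d × B) R) := Ideal.span (rels R B x)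

/-- The coordinate ring of the chart. -/
def A0 : Type u := MvPolynomial (Fin d × B) R ⧸ J R B x

instance : CommRing (A0 R B x) := Ideal.Quotient.commRing (J R B x)

/-- The quotient map onto the coordinate ring. -/
def mkA : MvPolynomial (Fin d × B) R →+* A0 R B x := Ideal.Quotient.mk (J R B x)

instance : Algebra R (A0 R B x) := ((mkA R B x).comp MvPolynomial.C).toAlgebra

theorem mkA_eq {a b : MvPolynomial (Fin d × B) R} (h : a - b ∈ Ideal.span (rels R B x)) : mkA R B x a = mkA R B x b :=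
  Ideal.Quotient.eq.2 h

/-- The coordinates of the image of `b`. -/
def phi (i : Fin d) (b : B) : A0 R B x := mkA R B x (MvPolynomial.X (i, b))

variable {R B}

theorem phi_add (i : Fin d) (b b' : B) : phi R B x i (b + b') = phi R B x i b + phi R B x i b' := by
  rw [phi, phi, phi, ← map_add]
  refine mkA_eq R B x ?_
  rw [← sub_sub]
  exact Ideal.subset_span (Or.inl (Or.inl (Or.inl ⟨(i, b, b'), rfl⟩)))

theorem phi_smul (i : Fin d) (r : R) (b : B) :
    phi R B x i (r • b) = algebraMap R (A0 R B x) r * phi R B x i b := by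
  show mkA R B x _ = mkA R B x (MvPolynomial.C r) * mkA R B x _
  rw [← map_mul]
  exact mkA_eq R B x (Ideal.subset_span (Or.inl (Or.inl (Or.inr ⟨(i, r, b), rfl⟩))))

theorem phi_self (i j : Fin d) : phi R B x i (x j) = if i = j then 1 else 0 := by
  rw [show (if i = j then (1 : A0 R B x) else 0) = mkA R B x (if i = j then 1 else 0) by
    split_ifs <;> simp, phi]
  exact mkA_eq R B x (Ideal.subset_span (Or.inl (Or.inr ⟨(i, j), rfl⟩)))

theorem phi_mul (i : Fin d) (b b' : B) :
    phi R B x i (b * b') = ∑ j, phi R B x j b' * phi R B x i (b * x j) := by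
  simp only [phi, ← map_mul, ← map_sum]
  exact mkA_eq R B x (Ideal.subset_span (Or.inr ⟨(i, b, b'), rfl⟩))

theorem A0_hom_ext {C : Type u} [CommRing C] {α α' : A0 R B x →+* C}
    (h₁ : ∀ r, α (algebraMap R _ r) = α' (algebraMap R _ r)) (h₂ : ∀ i b, α (phi R B x i b) = α' (phi R B x i b)) :
    α = α' :=
  Ideal.Quotient.ringHom_ext (I := J R B x) (f := α) (g := α')
    (MvPolynomial.ringHom_ext h₁ fun t => h₂ t.1 t.2)

/-- A map out of the coordinate ring. -/
theorem exists_lift {C : Type u} [CommRing C] (ρ : R →+* C) (ψ : Fin d → B → C)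
    (hadd : ∀ i b b', ψ i (b + b') = ψ i b + ψ i b') (hsmul : ∀ i r b, ψ i (r • b) = ρ r * ψ i b)
    (hself : ∀ i j, ψ i (x j) = if i = j then 1 else 0)
    (hmul : ∀ i b b', ψ i (b * b') = ∑ j, ψ j b' * ψ i (b * x j)) :
    ∃ α : A0 R B x →+* C, (∀ r, α (algebraMap R _ r) = ρ r) ∧ ∀ i b, α (phi R B x i b) = ψ i b := by
  let e : MvPolynomial (Fin d × B) R →+* C := MvPolynomial.eval₂Hom ρ fun t => ψ t.1 t.2
  have he : J R B x ≤ RingHom.ker e := by
    rw [J, Ideal.span_le]
    rintro _ (((⟨⟨i, b, b'⟩, rfl⟩ | ⟨⟨i, r, b⟩, rfl⟩) | ⟨⟨i, j⟩, rfl⟩) | ⟨⟨i, b, b'⟩, rfl⟩) <;>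
      simp only [SetLike.mem_coe, RingHom.mem_ker, e, map_sub, map_mul, map_sum, MvPolynomial.eval₂Hom_X',
        MvPolynomial.eval₂Hom_C]
    · rw [hadd]; ring
    · rw [hsmul]; ring
    · rw [hself]; split_ifs <;> simp
    · rw [hmul]; ring
  refine ⟨Ideal.Quotient.lift _ e he, fun r => ?_, fun i b => ?_⟩
  · exact (Ideal.Quotient.lift_mk _ e he).trans (MvPolynomial.eval₂Hom_C _ _ r)
  · exact (Ideal.Quotient.lift_mk _ e he).trans (MvPolynomial.eval₂Hom_X' _ _ _)

/-- The coordinates as a linear map. -/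
def phiLin : B →ₗ[R] (Fin d → A0 R B x) where
  toFun b i := phi R B x i b
  map_add' b b' := funext fun i => phi_add x i b b'
  map_smul' r b := funext fun i => by
    rw [phi_smul, RingHom.id_apply, Pi.smul_apply]
    exact (Algebra.smul_def _ _).symm

/-- The coordinates on `A0 ⊗ B`. -/
noncomputable def coord : A0 R B x ⊗[R] B →ₗ[A0 R B x] (Fin d → A0 R B x) := (phiLin x).liftBaseChange (A0 R B x)

theorem coord_tmul (a : A0 R B x) (b : B) (i : Fin d) : coord x (a ⊗ₜ b) i = a * phi R B x i b := by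
  simp [coord, phiLin]

variable (R B) in
/-- The ideal of the universal family. -/
def I0 : Ideal (A0 R B x ⊗[R] B) :=
  Ideal.span (Set.range fun b : B => (1 : A0 R B x) ⊗ₜ[R] b - ∑ i, phi R B x i b ⊗ₜ x i)

variable (R B) in
/-- The universal family. -/
abbrev Q0 : Type u := (A0 R B x ⊗[R] B) ⧸ I0 R B x

/-- The projection from the affine chart. -/
noncomputable def incl : B →+* Q0 R B x :=
  (Ideal.Quotient.mk _).comp (Algebra.TensorProduct.includeRight : B →ₐ[R] A0 R B x ⊗[R] B).toRingHom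

theorem incl_eq (b : B) : incl x b = ∑ i, algebraMap (A0 R B x) (Q0 R B x) (phi R B x i b) * incl x (x i) := by
  have h : Ideal.Quotient.mk (I0 R B x) ((1 : A0 R B x) ⊗ₜ[R] b) =
      Ideal.Quotient.mk (I0 R B x) (∑ i, phi R B x i b ⊗ₜ x i) :=
    Ideal.Quotient.eq.2 (Ideal.subset_span ⟨b, rfl⟩)
  refine h.trans ?_
  rw [map_sum]
  refine Finset.sum_congr rfl fun i _ => ?_
  rw [show phi R B x i b ⊗ₜ[R] x i = (phi R B x i b ⊗ₜ[R] (1 : B)) * ((1 : A0 R B x) ⊗ₜ[R] x i) by simp, map_mul]
  rfl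

theorem mk_tmul (a : A0 R B x) (b : B) :
    Ideal.Quotient.mk (I0 R B x) (a ⊗ₜ[R] b) = algebraMap (A0 R B x) (Q0 R B x) a * incl x b := by
  rw [show a ⊗ₜ[R] b = (a ⊗ₜ[R] (1 : B)) * ((1 : A0 R B x) ⊗ₜ[R] b) by simp, map_mul]
  rfl

theorem Q0_hom_ext {C : Type u} [CommRing C] {α α' : Q0 R B x →+* C}
    (h₁ : ∀ a, α (algebraMap (A0 R B x) _ a) = α' (algebraMap (A0 R B x) _ a)) (h₂ : ∀ b, α (incl x b) = α' (incl x b)) :
    α = α' := by
  refine Ideal.Quotient.ringHom_ext (RingHom.ext fun z => ?_)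
  induction z using TensorProduct.induction_on with
  | zero => simp
  | tmul a b => simp only [RingHom.comp_apply, mk_tmul, map_mul, h₁, h₂]
  | add s t hs ht => rw [map_add, map_add, hs, ht]

/-- A map out of the universal family. -/
theorem exists_liftQ {C : Type u} [CommRing C] (α : A0 R B x →+* C) (γ : B →+* C)
    (hR : ∀ r, γ (algebraMap R B r) = α (algebraMap R _ r))
    (hrel : ∀ b, γ b = ∑ i, α (phi R B x i b) * γ (x i)) :
    ∃ υ : Q0 R B x →+* C, (∀ a, υ (algebraMap (A0 R B x) _ a) = α a) ∧ ∀ b, υ (incl x b) = γ b := by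
  letI : Algebra R C := (α.comp (algebraMap R _)).toAlgebra
  let α' : A0 R B x →ₐ[R] C := { α with commutes' := fun _ => rfl }
  let γ' : B →ₐ[R] C := { γ with commutes' := hR }
  let μ : A0 R B x ⊗[R] B →ₐ[R] C := Algebra.TensorProduct.lift α' γ' fun a b => Commute.all _ _
  have hμ : ∀ a b, μ (a ⊗ₜ b) = α a * γ b := fun a b => Algebra.TensorProduct.lift_tmul _ _ _ a b
  have hle : I0 R B x ≤ RingHom.ker μ.toRingHom := by
    rw [I0, Ideal.span_le]
    rintro _ ⟨b, rfl⟩
    show μ _ = 0
    rw [map_sub, map_sum, hμ, map_one, one_mul, hrel b, sub_eq_zero]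
    exact Finset.sum_congr rfl fun i _ => (hμ _ _).symm
  refine ⟨Ideal.Quotient.lift _ μ.toRingHom hle, fun a => ?_, fun b => ?_⟩
  · exact (hμ a 1).trans (by rw [map_one, mul_one])
  · exact (hμ 1 b).trans (by rw [map_one, one_mul])

theorem coord_I0 (z : A0 R B x ⊗[R] B) (hz : z ∈ I0 R B x) : coord x z = 0 := by
  have hmul : ∀ (w : A0 R B x ⊗[R] B) (b : B),
      coord x (w * ((1 : A0 R B x) ⊗ₜ[R] b - ∑ i, phi R B x i b ⊗ₜ x i)) = 0 := by
    intro w b
    induction w using TensorProduct.induction_on with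
    | zero => simp
    | tmul a c =>
      funext i
      simp only [mul_sub, Finset.mul_sum, Algebra.TensorProduct.tmul_mul_tmul, map_sub, map_sum, mul_one,
        Pi.sub_apply, Finset.sum_apply, coord_tmul, Pi.zero_apply, phi_mul x i c b]
      rw [sub_eq_zero]
      exact Finset.sum_congr rfl fun j _ => by ring
    | add s t hs ht => rw [add_mul, map_add, hs, ht, add_zero]
  obtain ⟨c, hc⟩ := Finsupp.mem_ideal_span_range_iff_exists_finsupp.1 hz
  rw [← hc, Finsupp.sum, map_sum]
  exact Finset.sum_eq_zero fun b _ => hmul _ b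

/-- The universal family has the `x i` as a basis. -/
theorem bijective_comb :
    Function.Bijective fun a : Fin d → A0 R B x => ∑ i, algebraMap (A0 R B x) (Q0 R B x) (a i) * incl x (x i) := by
  constructor
  · intro a a' h
    have h' : Ideal.Quotient.mk (I0 R B x) (∑ i, a i ⊗ₜ[R] x i) = Ideal.Quotient.mk (I0 R B x) (∑ i, a' i ⊗ₜ[R] x i) := by
      simp only [map_sum, mk_tmul]; exact h
    have h2 := coord_I0 x _ (Ideal.Quotient.eq.1 h')
    rw [map_sub, sub_eq_zero] at h2
    funext j
    have h3 := congrFun h2 j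
    simpa [map_sum, Finset.sum_apply, coord_tmul, phi_self] using h3
  · intro y
    obtain ⟨z, rfl⟩ := Ideal.Quotient.mk_surjective y
    induction z using TensorProduct.induction_on with
    | zero => exact ⟨0, by simp⟩
    | tmul a b =>
      refine ⟨fun i => a * phi R B x i b, ?_⟩
      rw [mk_tmul, incl_eq x b, Finset.mul_sum]
      exact Finset.sum_congr rfl fun i _ => by rw [map_mul, mul_assoc]
    | add s t hs ht =>
      obtain ⟨a, ha⟩ := hs
      obtain ⟨a', ha'⟩ := ht
      refine ⟨a + a', ?_⟩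
      simp only [Pi.add_apply, map_add, add_mul, Finset.sum_add_distrib]
      rw [← ha, ← ha']

/-- The universal family is free of rank `d`. -/
theorem exists_basis : Nonempty (Module.Basis (Fin d) (A0 R B x) (Q0 R B x)) := by
  let Φ : (Fin d → A0 R B x) →ₗ[A0 R B x] Q0 R B x :=
    { toFun := fun a => ∑ i, algebraMap (A0 R B x) (Q0 R B x) (a i) * incl x (x i)
      map_add' := fun a a' => by simp [add_mul, Finset.sum_add_distrib]
      map_smul' := fun c a => by
        simp only [Pi.smul_apply, smul_eq_mul, map_mul, RingHom.id_apply, mul_assoc]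
        rw [← Finset.mul_sum]
        exact (Algebra.smul_def _ _).symm }
  exact ⟨(Pi.basisFun _ _).map (LinearEquiv.ofBijective Φ (bijective_comb x))⟩

end

end Groth.Agent.HilbPtsRep.Alg
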