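import Groth.Agent.HilbPtsRep.Functor
import Groth.Agent.GrpdLib.InvOpen
import Groth.Agent.AlgSpDec.FinDeg
import Mathlib

/-!
# The charts cover the Hilbert functor of points
-/

set_option autoImplicit false
set_option linter.style.haveILetI false
set_option linter.unusedVariables false
set_option linter.overlappingInstances false
set_option backward.isDefEq.respectTransparency false

universe u
open CategoryTheory CategoryTheory.Limits AlgebraicGeometry TopologicalSpace Opposite TensorProduct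

namespace Groth.Agent.HilbPtsRep

/-- The fibre of a finite locally free morphism of degree `d` has at most `d` points. -/
theorem exists_fibre_points {Z T : Scheme.{u}} (π : Z ⟶ T) [IsFinite π] [Flat π] {d : ℕ}
    (hd : ∀ t, π.finrank t = d) (t : T) :
    ∃ (P : Set Z), P.Finite ∧ P.ncard ≤ d ∧ π ⁻¹' {t} = P := by
  let c := pullback.snd π (T.fromSpecResidueField t)
  haveI : IsFinite c := MorphismProperty.pullback_snd _ _ inferInstance
  haveI : IsAffine (pullback π (T.fromSpecResidueField t)) := isAffine_of_isAffineHom c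
  obtain ⟨B, _, _, e, he⟩ := AlgSpDec.exists_spec (K := T.residueField t) c
  haveI : IsFinite (Spec.map (CommRingCat.ofHom (algebraMap (T.residueField t) B))) := by
    have : Spec.map (CommRingCat.ofHom (algebraMap (T.residueField t) B)) = e.inv ≫ c := by
      rw [← he, Iso.inv_hom_id_assoc]
    rw [this]
    infer_instance
  haveI : Module.Finite (T.residueField t) B := RingHom.finite_algebraMap.1 ((IsFinite.SpecMap_iff (CommRingCat.ofHom (algebraMap (T.residueField t) B))).1 inferInstance)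
  have hdim : Module.finrank (T.residueField t) B = d := by
    let s : PrimeSpectrum (T.residueField t) := ⟨⊥, Ideal.isPrime_bot⟩
    have h1 := Scheme.Hom.finrank_SpecMap_algebraMap (T.residueField t) B s
    rw [Module.rankAtStalk_eq_finrank_of_free, Pi.natCast_apply, Nat.cast_id] at h1
    rw [← h1]
    haveI : IsFinite (Spec.map (CommRingCat.ofHom (algebraMap (T.residueField t) B))) := inferInstance
    haveI : Flat (Spec.map (CommRingCat.ofHom (algebraMap (T.residueField t) B))) := AlgSpDec.flat_toField _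
    have h2 := Scheme.Hom.finrank_comp_left_of_isIso e.hom (Spec.map (CommRingCat.ofHom (algebraMap (T.residueField t) B)))
    rw [he] at h2
    rw [← h2]
    show c.finrank s = d
    rw [Scheme.Hom.finrank_pullback_snd]
    exact hd _
  let θ : PrimeSpectrum B → Z := fun q => pullback.fst π (T.fromSpecResidueField t) (e.inv q)
  haveI : Finite (PrimeSpectrum B) :=
    haveI : IsArtinianRing B := IsArtinianRing.of_finite (T.residueField t) B
    inferInstance
  refine ⟨Set.range θ, Set.finite_range θ, ?_, ?_⟩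
  · rw [← Nat.card_coe_set_eq]
    exact (Finite.card_range_le θ).trans ((AlgSpDec.card_primeSpectrum_le_finrank B).trans hdim.le)
  · ext z
    constructor
    · intro hz
      have h0 : π z = T.fromSpecResidueField t (IsLocalRing.closedPoint _) := by
        rw [Scheme.fromSpecResidueField_apply]; exact hz
      obtain ⟨y, hy, -⟩ := Scheme.Pullback.exists_preimage_pullback z _ h0
      refine ⟨e.hom y, ?_⟩
      show pullback.fst π _ (e.inv (e.hom y)) = z
      rw [← Scheme.Hom.comp_apply e.hom e.inv, Iso.hom_inv_id]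
      exact hy
    · rintro ⟨q, rfl⟩
      show π (pullback.fst π _ (e.inv q)) = t
      rw [← Scheme.Hom.comp_apply (pullback.fst π _) π, pullback.condition, Scheme.Hom.comp_apply,
        Scheme.fromSpecResidueField_apply]

variable {X S : Scheme.{u}} {f : X ⟶ S} {d : ℕ}

/-- Sections of a closed subscheme of a fibre product over a product of affine opens are spanned by
the sections on the first factor. -/
theorem span_closedImmersion {T Z : Scheme.{u}} {g : T ⟶ S} (s : Z ⟶ pullback f g) [IsClosedImmersion s]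
    {V : S.Opens} (hV : IsAffineOpen V) {U : X.Opens} (hU : IsAffineOpen U) (hUV : U ≤ f ⁻¹ᵁ V)
    {W : T.Opens} (hW : IsAffineOpen W) (hWV : W ≤ g ⁻¹ᵁ V)
    (e : (s ≫ pullback.snd f g) ⁻¹ᵁ W ≤ (s ≫ pullback.fst f g) ⁻¹ᵁ U) :
    letI := ((s ≫ pullback.snd f g).app W).hom.toAlgebra
    Submodule.span Γ(T, W) (Set.range fun b : Γ(X, U) =>
      (s ≫ pullback.fst f g).appLE U ((s ≫ pullback.snd f g) ⁻¹ᵁ W) e b) = ⊤ := by
  letI := ((s ≫ pullback.snd f g).app W).hom.toAlgebra
  let O : (pullback f g).Opens := pullback.fst f g ⁻¹ᵁ U ⊓ pullback.snd f g ⁻¹ᵁ W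
  have hiso := isIso_pushoutSection_of_isAffineOpen (IsPullback.of_hasPullback f g).flip.flip
    (US := V) (UT := W) (UX := U) (UY := O) hWV hUV rfl hV hW hU
  rw [isIso_pushoutSection_iff] at hiso
  have hO : IsAffineOpen O := by
    haveI : IsAffine (V : Scheme.{u}) := hV
    haveI : IsAffine (U : Scheme.{u}) := hU
    haveI : IsAffine (W : Scheme.{u}) := hW
    let m := pullback.map (f.resLE V U hUV) (g.resLE V W hWV) f g U.ι W.ι V.ι
      (Scheme.Hom.resLE_comp_ι _ _) (Scheme.Hom.resLE_comp_ι _ _)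
    have hm : m.opensRange = O := by
      ext x
      have := Scheme.Pullback.range_map (f.resLE V U hUV) (g.resLE V W hWV) f g U.ι W.ι V.ι
        (Scheme.Hom.resLE_comp_ι _ _) (Scheme.Hom.resLE_comp_ι _ _)
      show x ∈ Set.range m ↔ _
      rw [this, Scheme.Opens.range_ι, Scheme.Opens.range_ι]
      exact Iff.rfl
    rw [← hm]
    exact isAffineOpen_opensRange m
  have hZ : (s ≫ pullback.snd f g) ⁻¹ᵁ W = s ⁻¹ᵁ O := by
    refine le_antisymm (fun z hz => ⟨e hz, hz⟩) fun z hz => hz.2
  rw [eq_top_iff]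
  intro y _
  obtain ⟨w, hw⟩ := s.app_surjective O hO (Z.presheaf.map (homOfLE hZ.ge).op y)
  have hy : s.appLE O ((s ≫ pullback.snd f g) ⁻¹ᵁ W) hZ.le w = y := by
    rw [Scheme.Hom.appLE, CommRingCat.comp_apply, hw, ← CommRingCat.comp_apply, ← Functor.map_comp]
    exact congr($(Z.presheaf.map_id _) y)
  rw [← hy]
  refine pushout_induction hiso (fun w => s.appLE O ((s ≫ pullback.snd f g) ⁻¹ᵁ W) hZ.le w ∈
    Submodule.span Γ(T, W) (Set.range fun b : Γ(X, U) =>
      (s ≫ pullback.fst f g).appLE U ((s ≫ pullback.snd f g) ⁻¹ᵁ W) e b)) ?_ ?_ ?_ w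
  · rw [map_zero]; exact Submodule.zero_mem _
  · intro a b ha hb; rw [map_add]; exact Submodule.add_mem _ ha hb
  · intro a b
    rw [map_mul, ← CommRingCat.comp_apply, ← CommRingCat.comp_apply, Scheme.Hom.appLE_comp_appLE,
      Scheme.Hom.appLE_comp_appLE, ← Scheme.Hom.app_eq_appLE]
    exact Submodule.smul_mem _ a (Submodule.subset_span ⟨b, rfl⟩)

/-- At a prime where the rank is `d`, a spanning family has `d` members generating nearby. -/
theorem exists_generators {A M ι : Type u} [CommRing A] [AddCommGroup M] [Module A M] [Module.Finite A M]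
    [Module.Flat A M] (v : ι → M) (hv : Submodule.span A (Set.range v) = ⊤) (P : PrimeSpectrum A) {d : ℕ}
    (hd : Module.rankAtStalk M P = d) :
    ∃ (k : Fin d → ι) (r : A), r ∉ P.asIdeal ∧ ∀ m : M, r • m ∈ Submodule.span A (Set.range (v ∘ k)) := by
  classical
  let κ := P.asIdeal.ResidueField
  let w : ι → κ ⊗[A] M := fun i => (1 : κ) ⊗ₜ v i
  have hw : Submodule.span κ (Set.range w) = ⊤ := by
    rw [eq_top_iff]
    intro z hz
    clear hz
    induction z using TensorProduct.induction_on with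
    | zero => exact Submodule.zero_mem _
    | add a b ha hb => exact Submodule.add_mem _ ha hb
    | tmul c m =>
      rw [← mul_one c, ← smul_eq_mul, ← TensorProduct.smul_tmul']
      refine Submodule.smul_mem _ c ?_
      have hm : m ∈ Submodule.span A (Set.range v) := hv ▸ Submodule.mem_top
      induction hm using Submodule.span_induction with
      | mem x hx => obtain ⟨i, rfl⟩ := hx; exact Submodule.subset_span ⟨i, rfl⟩
      | zero => simp
      | add x y _ _ hx hy => rw [TensorProduct.tmul_add]; exact Submodule.add_mem _ hx hy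
      | smul a x _ hx =>
        rw [TensorProduct.tmul_smul, ← algebraMap_smul κ a]
        exact Submodule.smul_mem _ _ hx
  have hfr : Module.finrank κ (κ ⊗[A] M) = d := (Module.rankAtStalk_eq P).symm.trans hd
  obtain ⟨b, hbsub, hbspan, hbli⟩ := exists_linearIndependent κ (Set.range w)
  rw [hw] at hbspan
  haveI : Finite b := LinearIndependent.finite hbli
  haveI : Fintype b := Fintype.ofFinite b
  have hcard : Fintype.card b = d := by
    have h9 := finrank_span_set_eq_card (s := b) hbli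
    rw [hbspan, finrank_top, hfr, Set.toFinset_card] at h9
    exact h9.symm
  let eq : Fin d ≃ b := (Fintype.equivFinOfCardEq hcard).symm
  choose k hk using fun i : Fin d => hbsub (eq i).2
  refine ⟨k, ?_⟩
  have hkspan : Submodule.span κ (Set.range (w ∘ k)) = ⊤ := by
    rw [show Set.range (w ∘ k) = b from ?_, hbspan]
    ext z
    constructor
    · rintro ⟨i, rfl⟩; rw [Function.comp_apply, hk]; exact (eq i).2
    · intro hz; exact ⟨eq.symm ⟨z, hz⟩, by rw [Function.comp_apply, hk]; simp⟩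
  let N := Submodule.span A (Set.range (v ∘ k))
  let q : PrimeSpectrum κ := ⟨⊥, Ideal.isPrime_bot⟩
  obtain ⟨r, hr, hrN⟩ := exists_smul_mem N q (fun m => by
    show N.mkQ.baseChange κ ((1 : κ) ⊗ₜ m) = 0
    have hle : Submodule.span κ (Set.range (w ∘ k)) ≤ LinearMap.ker (N.mkQ.baseChange κ) := by
      rw [Submodule.span_le]
      rintro _ ⟨i, rfl⟩
      show N.mkQ.baseChange κ ((1 : κ) ⊗ₜ v (k i)) = 0
      rw [LinearMap.baseChange_tmul, Submodule.mkQ_apply,
        (Submodule.Quotient.mk_eq_zero N (x := v (k i))).2 (Submodule.subset_span ⟨i, rfl⟩), TensorProduct.tmul_zero]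
    rw [hkspan] at hle
    exact hle Submodule.mem_top)
  refine ⟨r, fun h => hr ?_, hrN⟩
  show algebraMap A κ r ∈ (⊥ : Ideal κ)
  rw [Submodule.mem_bot]
  exact Ideal.algebraMap_residueField_eq_zero.2 h

/-- Every point of the base of a family lies in some chart locus. -/
theorem exists_mem_loc
    (h : ∀ (s : S) (x : Fin d → X), (∀ i, f.base (x i) = s) → ∃ U : X.Opens, IsAffineOpen U ∧ ∀ i, x i ∈ U)
    {T : Scheme.{u}} (e : Fam f d T) (t : T) : ∃ c : Chart f d, t ∈ c.Loc e := by
  classical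
  obtain ⟨g, I, hI⟩ := e
  obtain ⟨⟨h1, h2, h3⟩, h4⟩ := hI
  let π := I.subschemeι ≫ pullback.snd f g
  let p := I.subschemeι ≫ pullback.fst f g
  haveI : IsFinite π := h1
  haveI : Flat π := h2
  obtain ⟨P, hPfin, hPcard, hPeq⟩ := exists_fibre_points π h4 t
  have hw : p ≫ f = π ≫ g := by simp only [p, π, Category.assoc, pullback.condition]
  have hPs : ∀ z ∈ P, f (p z) = g t := fun z hz => by
    rw [← hPeq] at hz
    rw [← Scheme.Hom.comp_apply, hw, Scheme.Hom.comp_apply, show π z = t from hz]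
  obtain ⟨U₀, hU₀, hPU₀⟩ : ∃ U₀ : X.Opens, IsAffineOpen U₀ ∧ ∀ z ∈ P, p z ∈ U₀ := by
    rcases P.eq_empty_or_nonempty with hP | ⟨z₀, hz₀⟩
    · subst hP
      exact ⟨⊥, isAffineOpen_bot X, fun z hz => hz.elim⟩
    · haveI : Fintype P := hPfin.fintype
      obtain ⟨em⟩ : Nonempty (P ↪ Fin d) := Function.Embedding.nonempty_of_card_le (by
        rw [Fintype.card_fin, ← Nat.card_eq_fintype_card, Nat.card_coe_set_eq]; exact hPcard)
      haveI : Nonempty P := ⟨⟨z₀, hz₀⟩⟩
      obtain ⟨U, hU, hxU⟩ := h (g t) (fun i => p (Function.invFun em i).1)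
        fun i => hPs _ (Function.invFun em i).2
      refine ⟨U, hU, fun z hz => ?_⟩
      have := hxU (em ⟨z, hz⟩)
      rwa [Function.leftInverse_invFun em.injective] at this
  obtain ⟨V, hV, htV, -⟩ := exists_isAffineOpen_mem_and_subset (x := g t) (U := (⊤ : S.Opens)) trivial
  obtain ⟨a, haP, haV⟩ := GrpdLib.exists_basicOpen_of_finite hU₀ (hPfin.image p) (U₀ ⊓ f ⁻¹ᵁ V)
    (by rintro _ ⟨z, hz, rfl⟩; exact hPU₀ z hz)
    (by rintro _ ⟨z, hz, rfl⟩; exact ⟨hPU₀ z hz, show f (p z) ∈ V by rw [hPs z hz]; exact htV⟩)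
  let U := X.basicOpen a
  have hU : IsAffineOpen U := hU₀.basicOpen a
  have hUV : U ≤ f ⁻¹ᵁ V := haV.trans inf_le_right
  let O : T.Opens := ⟨(π '' ((p ⁻¹ᵁ U : I.subscheme.Opens) : Set I.subscheme)ᶜ)ᶜ,
    (π.isClosedMap _ (p ⁻¹ᵁ U).isOpen.isClosed_compl).isOpen_compl⟩
  have htO : t ∈ O := fun ⟨z, hz1, hz2⟩ => hz1 (haP ⟨z, hPeq ▸ hz2, rfl⟩)
  obtain ⟨W, hW, htW, hWle⟩ := exists_isAffineOpen_mem_and_subset (x := t) (U := O ⊓ g ⁻¹ᵁ V) ⟨htO, htV⟩
  have hWV : W ≤ g ⁻¹ᵁ V := hWle.trans inf_le_right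
  have eW : π ⁻¹ᵁ W ≤ p ⁻¹ᵁ U := fun z hz => by
    by_contra hc
    exact (hWle hz).1 ⟨z, hc, rfl⟩
  letI : Algebra Γ(T, W) Γ(I.subscheme, π ⁻¹ᵁ W) := (π.app W).hom.toAlgebra
  haveI : Module.Finite Γ(T, W) Γ(I.subscheme, π ⁻¹ᵁ W) := π.finite_app W hW
  haveI : Module.Flat Γ(T, W) Γ(I.subscheme, π ⁻¹ᵁ W) := by
    have h' : (π.app W).hom.Flat := by
      rw [Scheme.Hom.app_eq_appLE]; exact π.flat_appLE hW (hW.preimage π) le_rfl
    exact h'
  haveI : LocallyOfFinitePresentation π := h3
  let Pp := hW.primeIdealOf ⟨t, htW⟩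
  obtain ⟨k, r, hr, hrN⟩ := exists_generators _ (span_closedImmersion (f := f) (T := T) (g := g) I.subschemeι hV hU hUV hW hWV eW)
    Pp (rankAtStalk_app hW h4 Pp)
  refine ⟨⟨V, hV, U, hU, hUV, k⟩, mem_locus.2 ⟨T.basicOpen r, genOn_basicOpen hW hWV eW r hrN, ?_⟩⟩
  rw [show t = hW.fromSpec Pp from (hW.fromSpec_primeIdealOf ⟨t, htW⟩).symm]
  show Pp ∈ hW.fromSpec ⁻¹ᵁ T.basicOpen r
  rw [hW.fromSpec_preimage_basicOpen]
  exact hr

end Groth.Agent.HilbPtsRep
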