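import Groth.Agent.HilbPtsRep.Univ
import Groth.Agent.HilbDLib.ClosedSub
import Mathlib

/-!
# The Hilbert functor of points on schemes and its affine charts
-/

set_option autoImplicit false
set_option linter.style.haveILetI false
set_option linter.unusedVariables false
set_option linter.overlappingInstances false
set_option backward.isDefEq.respectTransparency false

universe u
open CategoryTheory CategoryTheory.Limits AlgebraicGeometry TopologicalSpace Opposite

namespace Groth.Agent.HilbPtsRep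

variable {X S : Scheme.{u}} (f : X ⟶ S) (d : ℕ)

/-- Families over a scheme together with the morphism to the base. -/
abbrev Fam (T : Scheme.{u}) : Type u := Σ g : T ⟶ S, HilbD.Obj f d (Over.mk g)

/-- Pullback of families. -/
noncomputable def Fam.pull {T T' : Scheme.{u}} (h : T' ⟶ T) (e : Fam f d T) : Fam f d T' :=
  ⟨h ≫ e.1, HilbD.pull f (Over.homMk h rfl : Over.mk (h ≫ e.1) ⟶ Over.mk e.1) e.2.1,
    HilbDLib.isFinLocFreeOfDeg_pull f _ _ e.2.2⟩

variable {f d}

theorem Fam.comap_eq {T : Scheme.{u}} {e e' : Fam f d T} (h : e = e') {W : Scheme.{u}} (l : W ⟶ pullback f e.1)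
    (l' : W ⟶ pullback f e'.1) (h₁ : l ≫ pullback.fst _ _ = l' ≫ pullback.fst _ _)
    (h₂ : l ≫ pullback.snd _ _ = l' ≫ pullback.snd _ _) :
    (e.2.1 : (pullback f e.1).IdealSheafData).comap l = (e'.2.1 : (pullback f e'.1).IdealSheafData).comap l' := by
  subst h
  obtain rfl : l = l' := pullback.hom_ext h₁ h₂
  rfl

theorem Fam.ext' {T : Scheme.{u}} {e e' : Fam f d T} (hg : e.1 = e'.1) (l : pullback f e.1 ⟶ pullback f e'.1)
    (h₁ : l ≫ pullback.fst _ _ = pullback.fst _ _) (h₂ : l ≫ pullback.snd _ _ = pullback.snd _ _)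
    (hI : (e.2.1 : (pullback f e.1).IdealSheafData) = (e'.2.1 : (pullback f e'.1).IdealSheafData).comap l) : e = e' := by
  obtain ⟨g, I⟩ := e
  obtain ⟨g', I'⟩ := e'
  obtain rfl : g = g' := hg
  obtain rfl : l = 𝟙 _ := pullback.hom_ext (by rw [h₁, Category.id_comp]) (by rw [h₂, Category.id_comp])
  rw [Scheme.IdealSheafData.comap_id] at hI
  exact congrArg (Sigma.mk g) (Subtype.ext hI)

theorem comap_congr {A B : Scheme.{u}} {l l' : A ⟶ B} (h : l = l') (I : B.IdealSheafData) : I.comap l = I.comap l' := by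
  rw [h]

theorem Fam.pull_id {T : Scheme.{u}} (e : Fam f d T) : Fam.pull f d (𝟙 T) e = e := by
  refine Fam.ext' (Category.id_comp _) (PicF.XTmap f (Over.homMk (𝟙 T) rfl : Over.mk (𝟙 T ≫ e.1) ⟶ Over.mk e.1))
    ?_ ?_ (HilbDLib.pull_eq_comap f _ _)
  · exact (pullback.lift_fst _ _ _).trans (Category.comp_id _)
  · exact (pullback.lift_snd _ _ _).trans (Category.comp_id _)

theorem XTmap_homMk_fst {T T' : Scheme.{u}} (h : T' ⟶ T) (g : T ⟶ S) :
    PicF.XTmap f (Over.homMk h rfl : Over.mk (h ≫ g) ⟶ Over.mk g) ≫ pullback.fst f g = pullback.fst f (h ≫ g) :=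
  (pullback.lift_fst _ _ _).trans (Category.comp_id _)

theorem XTmap_homMk_snd {T T' : Scheme.{u}} (h : T' ⟶ T) (g : T ⟶ S) :
    PicF.XTmap f (Over.homMk h rfl : Over.mk (h ≫ g) ⟶ Over.mk g) ≫ pullback.snd f g = pullback.snd f (h ≫ g) ≫ h :=
  pullback.lift_snd _ _ _

theorem Fam.pull_comp {T T' T'' : Scheme.{u}} (h' : T'' ⟶ T') (h : T' ⟶ T) (e : Fam f d T) :
    Fam.pull f d (h' ≫ h) e = Fam.pull f d h' (Fam.pull f d h e) := by
  refine Fam.ext' (Category.assoc _ _ _)
    (pullback.map _ _ _ _ (𝟙 X) (𝟙 T'') (𝟙 S) (by simp) (by simp [Fam.pull])) (by simp) (by simp) ?_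
  show HilbD.pull f _ e.2.1 = Scheme.IdealSheafData.comap (HilbD.pull f _ (HilbD.pull f _ e.2.1)) _
  rw [HilbDLib.pull_eq_comap, HilbDLib.pull_eq_comap, HilbDLib.pull_eq_comap, ← Scheme.IdealSheafData.comap_comp,
    ← Scheme.IdealSheafData.comap_comp]
  refine comap_congr (pullback.hom_ext ?_ ?_) _
  · simp [PicF.XTmap, Fam.pull]
  · simp [PicF.XTmap, Fam.pull]

variable (f d)

/-- The Hilbert functor of points on schemes. -/
noncomputable def functor : Scheme.{u}ᵒᵖ ⥤ Type u where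
  obj T := Fam f d T.unop
  map h := ↾(Fam.pull f d h.unop)
  map_id T := by
    refine ConcreteCategory.hom_ext _ _ fun e => ?_
    exact Fam.pull_id e
  map_comp h h' := by
    refine ConcreteCategory.hom_ext _ _ fun e => ?_
    exact Fam.pull_comp h'.unop h.unop e

variable {f d}

/-- The locus where a chart applies to a family. -/
noncomputable def Chart.Loc (c : Chart f d) {T : Scheme.{u}} (e : Fam f d T) : T.Opens :=
  locus (e.2.1.subschemeι ≫ PicF.XTproj f (Over.mk e.1)) (e.2.1.subschemeι ≫ pullback.fst f e.1) c.x (e.1 ⁻¹ᵁ c.V)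

/-- The projection of a closed immersion cutting out a family is finite locally free. -/
theorem finLocFreeOfDeg_of_ker {T : Scheme.{u}} (e : Fam f d T) {Q : Scheme.{u}} (s : Q ⟶ pullback f e.1)
    [IsClosedImmersion s] (hs : s.ker = e.2.1) : Mor2.IsFinLocFreeOfDeg d (s ≫ pullback.snd f e.1) := by
  rw [← HilbDLib.finLocFreeOfDeg_ker s (pullback.snd f e.1)]
  have := e.2.2
  rw [hs]
  exact this

theorem Chart.locus_ker (c : Chart f d) {T : Scheme.{u}} (g : T ⟶ S) {Q : Scheme.{u}} (s : Q ⟶ pullback f g)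
    [IsClosedImmersion s] (I : (pullback f g).IdealSheafData) (hs : s.ker = I) [IsFinite (I.subschemeι ≫ pullback.snd f g)] :
    locus (I.subschemeι ≫ pullback.snd f g) (I.subschemeι ≫ pullback.fst f g) c.x (g ⁻¹ᵁ c.V) =
      locus (s ≫ pullback.snd f g) (s ≫ pullback.fst f g) c.x (g ⁻¹ᵁ c.V) := by
  subst hs
  have hfac : s.toImage ≫ s.ker.subschemeι = s := Scheme.Hom.toImage_imageι s
  have H : IsPullback s.toImage (s ≫ pullback.snd f g) (s.ker.subschemeι ≫ pullback.snd f g) (𝟙 T) :=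
    IsPullback.of_horiz_isIso ⟨by rw [Category.comp_id, ← Category.assoc, hfac]⟩
  have h := locus_of_isPullback (π := s.ker.subschemeι ≫ pullback.snd f g)
    (p := s.ker.subschemeι ≫ pullback.fst f g) (x := c.x) H (G := g ⁻¹ᵁ c.V) (G' := g ⁻¹ᵁ c.V) (by simp)
  rw [← Category.assoc, hfac] at h
  exact (h.trans (by simp)).symm

theorem Chart.loc_eq (c : Chart f d) {T : Scheme.{u}} (e : Fam f d T) {Q : Scheme.{u}} (s : Q ⟶ pullback f e.1)
    [IsClosedImmersion s] (hs : s.ker = e.2.1) :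
    c.Loc e = locus (s ≫ pullback.snd f e.1) (s ≫ pullback.fst f e.1) c.x (e.1 ⁻¹ᵁ c.V) := by
  obtain ⟨⟨h1, h2, h3⟩, h4⟩ := e.2.2
  exact @Chart.locus_ker _ _ f d c T e.1 Q s _ e.2.1 hs h1

theorem Chart.loc_pull (c : Chart f d) {T T' : Scheme.{u}} (h : T' ⟶ T) (e : Fam f d T) :
    c.Loc (Fam.pull f d h e) = h ⁻¹ᵁ c.Loc e := by
  obtain ⟨⟨h1, h2, h3⟩, h4⟩ := e.2.2
  haveI : IsFinite (e.2.1.subschemeι ≫ PicF.XTproj f (Over.mk e.1)) := h1
  let m := PicF.XTmap f (Over.homMk h rfl : Over.mk (h ≫ e.1) ⟶ Over.mk e.1)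
  have hs : (pullback.fst m e.2.1.subschemeι).ker = (Fam.pull f d h e).2.1 :=
    (HilbDLib.pull_eq_comap f _ _).symm
  rw [c.loc_eq (Fam.pull f d h e) (pullback.fst m e.2.1.subschemeι) hs]
  have H := ((IsPullback.of_hasPullback m e.2.1.subschemeι).flip.paste_vert
    (HilbDLib.isPullback_XTmap f (Over.homMk h rfl : Over.mk (h ≫ e.1) ⟶ Over.mk e.1)))
  have h5 := locus_of_isPullback (p := e.2.1.subschemeι ≫ pullback.fst f e.1) (x := c.x) H
    (G := e.1 ⁻¹ᵁ c.V) (G' := (h ≫ e.1) ⁻¹ᵁ c.V) rfl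
  rw [← Category.assoc, ← pullback.condition, Category.assoc, XTmap_homMk_fst] at h5
  exact h5

variable [IsSeparated f]

/-- The universal closed immersion of a chart. -/
noncomputable def Chart.s0 (c : Chart f d) : Spec c.Q0 ⟶ pullback f c.str :=
  pullback.lift c.p0 c.π0 c.p0_comp

instance Chart.isClosedImmersion_s0 (c : Chart f d) : IsClosedImmersion c.s0 := by
  obtain ⟨⟨h1, -, -⟩, -⟩ := c.finLocFree
  haveI : IsFinite (c.s0 ≫ pullback.snd f c.str) := by rw [Chart.s0, pullback.lift_snd]; exact h1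
  haveI : IsFinite c.s0 := IsFinite.of_comp c.s0 (pullback.snd f c.str)
  refine (IsClosedImmersion.iff_isFinite_and_mono _).2 ⟨inferInstance, ⟨fun {W} a b hab => ?_⟩⟩
  have hp := congrArg (· ≫ pullback.fst f c.str) hab
  have hπ := congrArg (· ≫ pullback.snd f c.str) hab
  simp only [Category.assoc, Chart.s0, pullback.lift_fst, pullback.lift_snd] at hp hπ
  rw [Chart.p0, ← Category.assoc, ← Category.assoc, cancel_mono] at hp
  letI := c.alg
  refine hat_ext (CommRingCat.hom_ext (Alg.Q0_hom_ext c.x (fun r => ?_) fun r => ?_))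
  · have := congrArg hat hπ
    rw [Chart.π0, hat_map, hat_map] at this
    exact congr($this r)
  · have := congrArg hat hp
    rw [hat_map, hat_map] at this
    exact congr($this r)

/-- The universal family of a chart. -/
noncomputable def Chart.univ (c : Chart f d) : Fam f d c.H :=
  ⟨c.str, c.s0.ker, (HilbDLib.finLocFreeOfDeg_ker c.s0 (pullback.snd f c.str)).2 (by
    rw [Chart.s0, pullback.lift_snd]; exact c.finLocFree)⟩

theorem Chart.loc_univ (c : Chart f d) : c.Loc c.univ = ⊤ := by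
  rw [c.loc_eq c.univ c.s0 rfl]
  show locus (c.s0 ≫ pullback.snd f c.str) (c.s0 ≫ pullback.fst f c.str) c.x (c.str ⁻¹ᵁ c.V) = ⊤
  have hV : c.str ⁻¹ᵁ c.V = ⊤ := top_le_iff.1 fun t _ => by
    show (Spec.map c.ρ0 ≫ c.hV.fromSpec) t ∈ c.V
    rw [Scheme.Hom.comp_apply]
    exact c.hV.range_fromSpec.le ⟨_, rfl⟩
  rw [hV, Chart.s0, pullback.lift_fst, pullback.lift_snd]
  exact c.locus_eq_top

/-- A family is in the image of a chart, in exactly one way, when the chart applies everywhere. -/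
theorem Chart.existsUnique_pull_univ (c : Chart f d) {T : Scheme.{u}} (e : Fam f d T) (htop : c.Loc e = ⊤) :
    ∃! ι : T ⟶ c.H, Fam.pull f d ι c.univ = e := by
  obtain ⟨g, I, hI⟩ := e
  obtain ⟨⟨h1, h2, h3⟩, h4⟩ := hI
  haveI : IsFinite (I.subschemeι ≫ pullback.snd f g) := h1
  haveI : Flat (I.subschemeι ≫ pullback.snd f g) := h2
  haveI : LocallyOfFinitePresentation (I.subschemeι ≫ pullback.snd f g) := h3
  refine existsUnique_of_exists_of_unique ?_ fun ι ι' hι hι' => ?_
  · obtain ⟨ι, u, hg, hu, H⟩ := c.exists_classify (T := T) (g := g) (π := I.subschemeι ≫ pullback.snd f g)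
      (p := I.subschemeι ≫ pullback.fst f g) h4 (by rw [Category.assoc, Category.assoc, pullback.condition]) htop
    subst hg
    refine ⟨ι, congrArg (Sigma.mk (ι ≫ c.str)) (Subtype.ext ?_)⟩
    have hsq : I.subschemeι ≫ PicF.XTmap f (Over.homMk ι rfl : Over.mk (ι ≫ c.str) ⟶ Over.mk c.str) = u ≫ c.s0 := by
      apply pullback.hom_ext
      · show _ ≫ pullback.fst f c.str = _ ≫ pullback.fst f c.str
        rw [Category.assoc, XTmap_homMk_fst, Category.assoc, Chart.s0, pullback.lift_fst, hu]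
      · show _ ≫ pullback.snd f c.str = _ ≫ pullback.snd f c.str
        rw [Category.assoc, XTmap_homMk_snd, Category.assoc, Chart.s0, pullback.lift_snd, H.w, Category.assoc]
    have hH : IsPullback (I.subschemeι ≫ PicF.XTproj f (Over.mk (ι ≫ c.str))) u ι
        (c.s0 ≫ PicF.XTproj f (Over.mk c.str)) := by
      show IsPullback _ u ι (c.s0 ≫ pullback.snd f c.str)
      rw [Chart.s0, pullback.lift_snd]
      exact H.flip
    have hP : IsPullback I.subschemeι u
        (PicF.XTmap f (Over.homMk ι rfl : Over.mk (ι ≫ c.str) ⟶ Over.mk c.str)) c.s0 :=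
      (IsPullback.of_bot hH.flip hsq.symm
        (HilbDLib.isPullback_XTmap f (Over.homMk ι rfl : Over.mk (ι ≫ c.str) ⟶ Over.mk c.str))).flip
    exact (HilbDLib.pull_eq_ker_of_isPullback f _ hP).trans (Scheme.IdealSheafData.ker_subschemeι I)
  · have key : ∀ (ι : T ⟶ c.H) (e : Fam f d T), Fam.pull f d ι c.univ = e →
        ι ≫ c.str = e.1 ∧ ∃ u : e.2.1.subscheme ⟶ Spec c.Q0,
          u ≫ c.π0 = (e.2.1.subschemeι ≫ pullback.snd f e.1) ≫ ι ∧ u ≫ c.p0 = e.2.1.subschemeι ≫ pullback.fst f e.1 := by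
      rintro ι _ rfl
      let m := PicF.XTmap f (Over.homMk ι rfl : Over.mk (ι ≫ c.str) ⟶ Over.mk c.str)
      let J := (Fam.pull f d ι c.univ).2.1
      have hle : c.s0.ker ≤ (J.subschemeι ≫ m).ker :=
        (Scheme.IdealSheafData.map_gc m).le_u (HilbDLib.pull_eq_comap f _ _).ge
      let u := IsClosedImmersion.lift c.s0 (J.subschemeι ≫ m) hle
      have hu : u ≫ c.s0 = J.subschemeι ≫ m := IsClosedImmersion.lift_fac _ _ _
      refine ⟨rfl, u, ?_, ?_⟩
      · have := congrArg (· ≫ pullback.snd f c.str) hu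
        simp only [Category.assoc, Chart.s0, pullback.lift_snd] at this
        rw [this, Category.assoc]
        exact congrArg (J.subschemeι ≫ ·) (XTmap_homMk_snd ι c.str)
      · have := congrArg (· ≫ pullback.fst f c.str) hu
        simp only [Category.assoc, Chart.s0, pullback.lift_fst] at this
        rw [this]
        exact congrArg (J.subschemeι ≫ ·) (XTmap_homMk_fst ι c.str)
    obtain ⟨hg, u, hu1, hu2⟩ := key ι _ hι
    obtain ⟨hg', u', hu1', hu2'⟩ := key ι' _ hι'
    exact c.classify_unique h4 htop hg hg' hu1 hu2 hu1' hu2'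

end Groth.Agent.HilbPtsRep
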