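import Groth.Agent.HilbPtsRep.Loc
import Groth.Agent.HilbPtsRep.Alg
import Groth.Agent.MorLib.Birat
import Groth.Agent.PnCoh.Chow.Basic
import Groth.Prelude.Def_Mor2
import Mathlib

/-!
# Classification of families with a chosen basis by the coordinate ring of a chart
-/

set_option autoImplicit false
set_option linter.style.haveILetI false
set_option linter.unusedVariables false
set_option linter.overlappingInstances false
set_option backward.isDefEq.respectTransparency false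

universe u
open CategoryTheory CategoryTheory.Limits AlgebraicGeometry TopologicalSpace Opposite

namespace Groth.Agent.HilbPtsRep

variable {X S : Scheme.{u}}

/-- The ring map of a morphism into an affine scheme. -/
noncomputable def hat {W : Scheme.{u}} {A : CommRingCat.{u}} (a : W ⟶ Spec A) : A ⟶ Γ(W, ⊤) :=
  (Scheme.ΓSpecIso A).inv ≫ a.appTop

theorem hat_ext {W : Scheme.{u}} {A : CommRingCat.{u}} {a b : W ⟶ Spec A} (h : hat a = hat b) : a = b :=
  ext_of_isAffine ((cancel_epi (Scheme.ΓSpecIso A).inv).1 h)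

theorem hat_comp {W W' : Scheme.{u}} {A : CommRingCat.{u}} (w : W' ⟶ W) (a : W ⟶ Spec A) :
    hat (w ≫ a) = hat a ≫ w.appTop := by
  simp [hat, Category.assoc]

theorem hat_map {W : Scheme.{u}} {A A' : CommRingCat.{u}} (a : W ⟶ Spec A) (φ : A' ⟶ A) :
    hat (a ≫ Spec.map φ) = φ ≫ hat a := by
  simp [hat, ← Scheme.ΓSpecIso_inv_naturality_assoc]

theorem hat_toSpecΓ {W : Scheme.{u}} {A : CommRingCat.{u}} (φ : A ⟶ Γ(W, ⊤)) :
    hat (W.toSpecΓ ≫ Spec.map φ) = φ := by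
  rw [hat_map]
  simp [hat]

theorem appLE_fromSpec {W : Scheme.{u}} {U : X.Opens} (hU : IsAffineOpen U) (a : W ⟶ Spec Γ(X, U))
    (e : (⊤ : W.Opens) ≤ (a ≫ hU.fromSpec) ⁻¹ᵁ U) : (a ≫ hU.fromSpec).appLE U ⊤ e = hat a := by
  have e1 : hU.fromSpec.appLE U ⊤ (by rw [hU.fromSpec_preimage_self]) = (Scheme.ΓSpecIso Γ(X, U)).inv := by
    rw [Scheme.Hom.appLE, IsAffineOpen.fromSpec_app_self]
    simp [← Functor.map_comp]
  rw [← Scheme.Hom.appLE_comp_appLE a hU.fromSpec U ⊤ ⊤ (by rw [hU.fromSpec_preimage_self]) le_rfl, e1, hat]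
  congr 1
  simp [Scheme.Hom.appLE]

/-- A morphism into an affine open is given by its global comorphism. -/
theorem eq_toSpecΓ_fromSpec_top {W : Scheme.{u}} {U : X.Opens} (hU : IsAffineOpen U) (a : W ⟶ X)
    (e : (⊤ : W.Opens) ≤ a ⁻¹ᵁ U) : a = W.toSpecΓ ≫ Spec.map (a.appLE U ⊤ e) ≫ hU.fromSpec := by
  have h1 := PnCoh.Chow.eq_toSpecΓ_fromSpec hU a ⊤ e
  haveI : IsIso (⊤ : W.Opens).ι := inferInstanceAs (IsIso W.topIso.hom)
  rw [Scheme.Opens.toSpecΓ_top, Category.assoc, cancel_epi] at h1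
  exact h1

variable (f : X ⟶ S)

/-- An affine open of `X` over an affine open of `S`, with `d` functions on it. -/
structure Chart (d : ℕ) where
  /-- The open of the base. -/
  V : S.Opens
  hV : IsAffineOpen V
  /-- The open of `X`. -/
  U : X.Opens
  hU : IsAffineOpen U
  le : U ≤ f ⁻¹ᵁ V
  /-- The functions. -/
  x : Fin d → Γ(X, U)

variable {f} {d : ℕ} (c : Chart f d)

/-- The algebra structure of the affine chart. -/
@[implicit_reducible]
noncomputable def Chart.alg : Algebra Γ(S, c.V) Γ(X, c.U) := (f.appLE c.V c.U c.le).hom.toAlgebra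

/-- The coordinate ring. -/
noncomputable def Chart.A0 : CommRingCat.{u} :=
  letI := c.alg
  CommRingCat.of (Alg.A0 Γ(S, c.V) Γ(X, c.U) c.x)

/-- The ring of the universal family. -/
noncomputable def Chart.Q0 : CommRingCat.{u} :=
  letI := c.alg
  CommRingCat.of (Alg.Q0 Γ(S, c.V) Γ(X, c.U) c.x)

/-- The base ring maps to the coordinate ring. -/
noncomputable def Chart.ρ0 : Γ(S, c.V) ⟶ c.A0 :=
  letI := c.alg
  CommRingCat.ofHom (algebraMap Γ(S, c.V) (Alg.A0 Γ(S, c.V) Γ(X, c.U) c.x))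

/-- The coordinate ring maps to the universal family. -/
noncomputable def Chart.α0 : c.A0 ⟶ c.Q0 :=
  letI := c.alg
  CommRingCat.ofHom (algebraMap (Alg.A0 Γ(S, c.V) Γ(X, c.U) c.x) (Alg.Q0 Γ(S, c.V) Γ(X, c.U) c.x))

/-- The functions on the chart map to the universal family. -/
noncomputable def Chart.β0 : Γ(X, c.U) ⟶ c.Q0 :=
  letI := c.alg
  CommRingCat.ofHom (Alg.incl c.x)

/-- The universal coordinates. -/
noncomputable def Chart.φ0 (i : Fin d) (b : Γ(X, c.U)) : c.A0 :=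
  letI := c.alg
  Alg.phi Γ(S, c.V) Γ(X, c.U) c.x i b

theorem Chart.β0_eq (b : Γ(X, c.U)) : c.β0 b = ∑ i, c.α0 (c.φ0 i b) * c.β0 (c.x i) := by
  letI := c.alg
  exact Alg.incl_eq c.x b

theorem Chart.ρ0_β0 : c.ρ0 ≫ c.α0 = f.appLE c.V c.U c.le ≫ c.β0 := by
  letI := c.alg
  ext r
  show algebraMap (Alg.A0 Γ(S, c.V) Γ(X, c.U) c.x) (Alg.Q0 Γ(S, c.V) Γ(X, c.U) c.x) (algebraMap _ _ r) =
    Alg.incl c.x (algebraMap Γ(S, c.V) Γ(X, c.U) r)
  refine congrArg (Ideal.Quotient.mk _) ?_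
  exact (Algebra.TensorProduct.algebraMap_apply _).symm.trans
    ((Algebra.TensorProduct.includeRight : Γ(X, c.U) →ₐ[Γ(S, c.V)] _).commutes r).symm

/-- The parameter scheme. -/
noncomputable abbrev Chart.H : Scheme.{u} := Spec c.A0

/-- The structure morphism. -/
noncomputable def Chart.str : c.H ⟶ S := Spec.map c.ρ0 ≫ c.hV.fromSpec

/-- The universal family. -/
noncomputable def Chart.π0 : Spec c.Q0 ⟶ c.H := Spec.map c.α0

/-- The universal family in `X`. -/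
noncomputable def Chart.p0 : Spec c.Q0 ⟶ X := Spec.map c.β0 ≫ c.hU.fromSpec

theorem Chart.p0_comp : c.p0 ≫ f = c.π0 ≫ c.str := by
  rw [Chart.p0, Chart.str, Chart.π0, Category.assoc, ← c.hV.SpecMap_appLE_fromSpec f c.hU c.le,
    ← Spec.map_comp_assoc, ← Spec.map_comp_assoc, c.ρ0_β0]

theorem Chart.finLocFree : Mor2.IsFinLocFreeOfDeg d c.π0 := by
  letI := c.alg
  obtain ⟨bas⟩ := Alg.exists_basis (R := Γ(S, c.V)) (B := Γ(X, c.U)) c.x
  haveI : Module.Free (Alg.A0 Γ(S, c.V) Γ(X, c.U) c.x) (Alg.Q0 Γ(S, c.V) Γ(X, c.U) c.x) := .of_basis bas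
  haveI : Module.Finite (Alg.A0 Γ(S, c.V) Γ(X, c.U) c.x) (Alg.Q0 Γ(S, c.V) Γ(X, c.U) c.x) := .of_basis bas
  haveI : Module.FinitePresentation (Alg.A0 Γ(S, c.V) Γ(X, c.U) c.x) (Alg.Q0 Γ(S, c.V) Γ(X, c.U) c.x) :=
    Module.finitePresentation_of_projective _ _
  haveI : Algebra.FinitePresentation (Alg.A0 Γ(S, c.V) Γ(X, c.U) c.x) (Alg.Q0 Γ(S, c.V) Γ(X, c.U) c.x) :=
    Algebra.FinitePresentation.of_finitePresentation _ _
  refine ⟨⟨(IsFinite.SpecMap_iff _).2 (show (algebraMap (Alg.A0 Γ(S, c.V) Γ(X, c.U) c.x) (Alg.Q0 Γ(S, c.V) Γ(X, c.U) c.x)).Finite from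
        RingHom.finite_algebraMap.2 inferInstance),
    Flat.SpecMap_iff.2 (show (algebraMap (Alg.A0 Γ(S, c.V) Γ(X, c.U) c.x) (Alg.Q0 Γ(S, c.V) Γ(X, c.U) c.x)).Flat from
        RingHom.flat_algebraMap_iff.2 inferInstance),
    (HasRingHomProperty.Spec_iff (P := @LocallyOfFinitePresentation)).2
      (show (algebraMap (Alg.A0 Γ(S, c.V) Γ(X, c.U) c.x) (Alg.Q0 Γ(S, c.V) Γ(X, c.U) c.x)).FinitePresentation from
        RingHom.finitePresentation_algebraMap.2 inferInstance)⟩, fun y => ?_⟩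
  refine (Scheme.Hom.finrank_SpecMap_algebraMap (Alg.A0 Γ(S, c.V) Γ(X, c.U) c.x) (Alg.Q0 Γ(S, c.V) Γ(X, c.U) c.x) y).trans ?_
  haveI : Nontrivial (Alg.A0 Γ(S, c.V) Γ(X, c.U) c.x) := y.nontrivial
  rw [Module.rankAtStalk_eq_finrank_of_free, Pi.natCast_apply, Module.finrank_eq_card_basis bas]
  simp

theorem Chart.genOn : GenOn c.π0 c.p0 c.x ⊤ ⊤ := by
  letI := c.alg
  have e : c.π0 ⁻¹ᵁ ⊤ ≤ c.p0 ⁻¹ᵁ c.U := by
    intro z _
    show (Spec.map c.β0 ≫ c.hU.fromSpec) z ∈ c.U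
    rw [Scheme.Hom.comp_apply]
    exact c.hU.range_fromSpec.le ⟨_, rfl⟩
  refine ⟨isAffineOpen_top (Spec c.A0), le_rfl, e, fun y => ?_⟩
  obtain ⟨a, ha⟩ := (Alg.bijective_comb (R := Γ(S, c.V)) (B := Γ(X, c.U)) c.x).2 ((Scheme.ΓSpecIso c.Q0).hom y)
  refine ⟨fun i => (Scheme.ΓSpecIso c.A0).inv (a i), ?_⟩
  have hp : c.p0.appLE c.U (c.π0 ⁻¹ᵁ ⊤) e = c.β0 ≫ (Scheme.ΓSpecIso c.Q0).inv := by
    refine (appLE_fromSpec c.hU (Spec.map c.β0) e).trans ?_
    simp [hat, ← Scheme.ΓSpecIso_inv_naturality]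
  have hπ : ∀ b, c.π0.app ⊤ ((Scheme.ΓSpecIso c.A0).inv b) = (Scheme.ΓSpecIso c.Q0).inv (c.α0 b) := fun b => by
    exact congr($((Scheme.ΓSpecIso_inv_naturality c.α0).symm) b)
  simp only [comb, hp, CommRingCat.comp_apply, hπ]
  refine Eq.trans ?_ ((congrArg (Scheme.ΓSpecIso c.Q0).inv ha).trans (Iso.hom_inv_id_apply (Scheme.ΓSpecIso c.Q0) y))
  refine Eq.trans (Finset.sum_congr rfl fun i _ => ?_) (map_sum (Scheme.ΓSpecIso c.Q0).inv.hom _ _).symm
  exact (map_mul (Scheme.ΓSpecIso c.Q0).inv.hom _ _).symm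

theorem Chart.locus_eq_top : locus c.π0 c.p0 c.x ⊤ = ⊤ :=
  top_le_iff.1 fun t _ => mem_locus.2 ⟨⊤, c.genOn, trivial⟩

variable {T Z : Scheme.{u}} {g : T ⟶ S} {π : Z ⟶ T} {p : Z ⟶ X}

theorem Chart.hat_rel (ι : T ⟶ c.H) (u : Z ⟶ Spec c.Q0) (hu : u ≫ c.π0 = π ≫ ι) (hp : u ≫ c.p0 = p)
    (e : π ⁻¹ᵁ ⊤ ≤ p ⁻¹ᵁ c.U) (b : Γ(X, c.U)) :
    comb π p c.x ⊤ e (fun i => hat ι (c.φ0 i b)) = p.appLE c.U (π ⁻¹ᵁ ⊤) e b := by
  subst hp
  have h1 : ∀ s, (u ≫ c.p0).appLE c.U (π ⁻¹ᵁ ⊤) e s = hat u (c.β0 s) := fun s => by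
    have := appLE_fromSpec c.hU (u ≫ Spec.map c.β0) (by rw [Category.assoc]; exact e)
    rw [hat_map] at this
    simp only [Category.assoc] at this
    exact congr($this s)
  have h2 : ∀ a, π.app ⊤ (hat ι a) = hat u (c.α0 a) := fun a => by
    have h3 := congrArg hat hu
    rw [Chart.π0, hat_map, hat_comp] at h3
    exact congr($(h3.symm) a)
  simp only [comb, h1, h2]
  rw [c.β0_eq b]
  refine Eq.trans (Finset.sum_congr rfl fun i _ => ?_) (map_sum (hat u).hom _ _).symm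
  exact (map_mul (hat u).hom _ _).symm

variable [IsFinite π] [Flat π] [LocallyOfFinitePresentation π]

/-- Uniqueness of the classifying morphism. -/
theorem Chart.classify_unique (hd : ∀ t, π.finrank t = d) {G : T.Opens} (htop : locus π p c.x G = ⊤)
    {ι ι' : T ⟶ c.H} (hι : ι ≫ c.str = g) (hι' : ι' ≫ c.str = g) {u u' : Z ⟶ Spec c.Q0}
    (hu : u ≫ c.π0 = π ≫ ι) (hp : u ≫ c.p0 = p) (hu' : u' ≫ c.π0 = π ≫ ι') (hp' : u' ≫ c.p0 = p) : ι = ι' := by
  letI := c.alg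
  have hb := bijective_comb (x := c.x) (G := G) (W := ⊤) hd htop.ge
  refine hat_ext (CommRingCat.hom_ext (Alg.A0_hom_ext c.x (fun r => ?_) fun i b => ?_))
  · have h1 := hι.trans hι'.symm
    rw [Chart.str, ← Category.assoc, ← Category.assoc, cancel_mono] at h1
    have h2 := congrArg hat h1
    rw [hat_map, hat_map] at h2
    exact congr($h2 r)
  · exact congrFun (hb.1 ((c.hat_rel ι u hu hp _ b).trans (c.hat_rel ι' u' hu' hp' _ b).symm)) i

/-- Existence of the classifying morphism. -/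
theorem Chart.exists_classify (hd : ∀ t, π.finrank t = d) (w : p ≫ f = π ≫ g)
    (htop : locus π p c.x (g ⁻¹ᵁ c.V) = ⊤) :
    ∃ (ι : T ⟶ c.H) (u : Z ⟶ Spec c.Q0), ι ≫ c.str = g ∧ u ≫ c.p0 = p ∧ IsPullback u π c.π0 ι := by
  letI := c.alg
  obtain ⟨hgV, hpU⟩ := le_preimage_of_le_locus (W := ⊤) htop.ge
  have hb := bijective_comb (x := c.x) (W := ⊤) hd htop.ge
  let q : Γ(X, c.U) →+* Γ(Z, π ⁻¹ᵁ ⊤) := (p.appLE c.U (π ⁻¹ᵁ ⊤) hpU).hom
  let ρ : Γ(S, c.V) →+* Γ(T, ⊤) := (g.appLE c.V ⊤ hgV).hom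
  have hρ : ∀ r, q (algebraMap Γ(S, c.V) Γ(X, c.U) r) = π.app ⊤ (ρ r) := fun r => by
    show p.appLE c.U (π ⁻¹ᵁ ⊤) hpU (f.appLE c.V c.U c.le r) = π.app ⊤ (g.appLE c.V ⊤ hgV r)
    rw [Scheme.Hom.app_eq_appLE, ← CommRingCat.comp_apply, ← CommRingCat.comp_apply,
      Scheme.Hom.appLE_comp_appLE, Scheme.Hom.appLE_comp_appLE]
    simp only [w]
  choose cb hE using fun b => hb.2 (q b)
  have heq : ∀ {a : Fin d → Γ(T, ⊤)} {b}, comb π p c.x ⊤ hpU a = q b → ∀ i, a i = cb b i :=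
    fun h i => congrFun (hb.1 (h.trans (hE _).symm)) i
  obtain ⟨α, hαR, hαφ⟩ := Alg.exists_lift c.x ρ (fun i b => cb b i)
    (fun i b b' => (heq (a := cb b + cb b') (b := b + b') (by
      rw [map_add, ← hE b, ← hE b']
      simp only [comb, Pi.add_apply, map_add, add_mul, Finset.sum_add_distrib]) i).symm)
    (fun i r b => (heq (a := fun i => ρ r * cb b i) (b := r • b) (by
      rw [Algebra.smul_def, map_mul, hρ, ← hE b]
      simp only [comb, map_mul, Finset.mul_sum, mul_assoc]) i).symm)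
    (fun i j => (heq (a := fun k => if k = j then 1 else 0) (b := c.x j) (by
      simp only [comb, apply_ite (π.app ⊤).hom, map_one, map_zero, ite_mul, one_mul, zero_mul,
        Finset.sum_ite_eq', Finset.mem_univ, if_true]
      rfl) i).symm)
    (fun i b b' => (heq (a := fun i => ∑ j, cb b' j * cb (b * c.x j) i) (b := b * b') (by
      rw [map_mul q b b', ← hE b']
      simp only [comb, Finset.mul_sum, map_sum, map_mul, Finset.sum_mul]
      rw [Finset.sum_comm]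
      refine Finset.sum_congr rfl fun j _ => ?_
      have h := hE (b * c.x j)
      simp only [comb] at h
      rw [show q b * (π.app ⊤ (cb b' j) * p.appLE c.U (π ⁻¹ᵁ ⊤) hpU (c.x j)) =
        π.app ⊤ (cb b' j) * q (b * c.x j) by rw [map_mul]; ring, ← h, Finset.mul_sum]
      exact Finset.sum_congr rfl fun k _ => by ring) i).symm)
  let ι : T ⟶ c.H := T.toSpecΓ ≫ Spec.map (CommRingCat.ofHom α : c.A0 ⟶ Γ(T, ⊤))
  have hι : hat ι = CommRingCat.ofHom α := hat_toSpecΓ _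
  obtain ⟨υ, hυα, hυq⟩ := Alg.exists_liftQ c.x ((π.app ⊤).hom.comp α) q
    (fun r => (hρ r).trans (congrArg (π.app ⊤).hom (hαR r)).symm) (fun b => by
      refine (hE b).symm.trans (Finset.sum_congr rfl fun i _ => ?_)
      show π.app ⊤ (cb b i) * _ = π.app ⊤ (α (Alg.phi _ _ c.x i b)) * _
      rw [hαφ])
  let u : Z ⟶ Spec c.Q0 := Z.toSpecΓ ≫ Spec.map (CommRingCat.ofHom υ : c.Q0 ⟶ Γ(Z, ⊤))
  have hu : u ≫ c.π0 = π ≫ ι := by
    refine hat_ext ?_
    rw [Chart.π0, hat_map, show hat u = CommRingCat.ofHom υ from hat_toSpecΓ _, hat_comp, hι]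
    ext a
    exact hυα a
  have hp : u ≫ c.p0 = p := by
    rw [Chart.p0, eq_toSpecΓ_fromSpec_top c.hU p hpU, ← Category.assoc, ← Category.assoc (Z.toSpecΓ)]
    congr 1
    refine hat_ext ?_
    rw [hat_map, show hat u = CommRingCat.ofHom υ from hat_toSpecΓ _, hat_toSpecΓ]
    ext b
    exact hυq b
  have hιg : ι ≫ c.str = g := by
    rw [Chart.str, eq_toSpecΓ_fromSpec_top c.hV g hgV, ← Category.assoc, ← Category.assoc (T.toSpecΓ)]
    congr 1
    refine hat_ext ?_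
    rw [hat_map, hι, hat_toSpecΓ]
    ext r
    exact hαR r
  refine ⟨ι, u, hιg, hp, ?_⟩
  obtain ⟨⟨h1, h2, h3⟩, h4⟩ := c.finLocFree
  let π' := pullback.snd c.π0 ι
  let p' := pullback.fst c.π0 ι ≫ c.p0
  let v : Z ⟶ pullback c.π0 ι := pullback.lift u π hu
  have hvπ : v ≫ π' = π := pullback.lift_snd _ _ _
  have hvp : v ≫ p' = p := by rw [pullback.lift_fst_assoc, hp]
  have htop' : locus π' p' c.x (ι ⁻¹ᵁ ⊤) = ⊤ := by
    rw [locus_of_isPullback (IsPullback.of_hasPullback c.π0 ι) rfl, c.locus_eq_top]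
    rfl
  have hd' : ∀ t, π'.finrank t = d := fun t => by rw [Scheme.Hom.finrank_pullback_snd]; exact h4 _
  haveI : IsIso v := by
    have key : ∀ W : T.affineOpens, IsIso (v ∣_ (π' ⁻¹ᵁ W.1)) := fun W => by
      haveI : IsAffine ↑(π' ⁻¹ᵁ W.1) := W.2.preimage π'
      have e : v ⁻¹ᵁ π' ⁻¹ᵁ W.1 = π ⁻¹ᵁ W.1 := by rw [← Scheme.Hom.comp_preimage, hvπ]
      haveI : IsAffine ↑(v ⁻¹ᵁ π' ⁻¹ᵁ W.1) := by rw [e]; exact W.2.preimage π
      have hbW := bijective_comb (x := c.x) (W := W.1) hd (htop.ge.trans' le_top)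
      have hbW' := bijective_comb (x := c.x) (W := W.1) hd' (htop'.ge.trans' le_top)
      have hmap := fun a => map_comb (π := π') (p := p') (π' := π) (h := 𝟙 T) (u := v) c.x
        (by rw [hvπ, Category.comp_id]) (W := W.1) (W' := W.1) (by simp) (le_preimage_of_le_locus (htop'.ge.trans' le_top)).2
        (by rw [hvp]; exact (le_preimage_of_le_locus (htop.ge.trans' le_top)).2) e.ge a
      have hbij : Function.Bijective (v.appLE (π' ⁻¹ᵁ W.1) (π ⁻¹ᵁ W.1) e.ge) := by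
        have hcomp : (v.appLE (π' ⁻¹ᵁ W.1) (π ⁻¹ᵁ W.1) e.ge).hom ∘ comb π' p' c.x W.1 (le_preimage_of_le_locus (htop'.ge.trans' le_top : W.1 ≤ _)).2 =
            comb π p c.x W.1 (le_preimage_of_le_locus (htop.ge.trans' le_top)).2 := by
          funext a
          refine (hmap a).trans ?_
          simp only [comb, hvp]
          refine Finset.sum_congr rfl fun i _ => ?_
          rw [show (𝟙 T : T ⟶ T).appLE W.1 W.1 (by simp) = 𝟙 _ by simp [Scheme.Hom.appLE]; exact T.presheaf.map_id _]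
          rfl
        rw [← Function.Bijective.of_comp_iff _ hbW', hcomp]
        exact hbW
      have hiso : IsIso (v.app (π' ⁻¹ᵁ W.1)) := by
        rw [ConcreteCategory.isIso_iff_bijective]
        have : v.appLE (π' ⁻¹ᵁ W.1) (π ⁻¹ᵁ W.1) e.ge = v.app (π' ⁻¹ᵁ W.1) ≫ Z.presheaf.map (eqToHom e.symm).op := rfl
        rw [this] at hbij
        exact (Function.Bijective.of_comp_iff'
          (ConcreteCategory.bijective_of_isIso (Z.presheaf.map (eqToHom e.symm).op)) (v.app (π' ⁻¹ᵁ W.1)).hom).1 hbij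
      haveI : IsIso (v ∣_ (π' ⁻¹ᵁ W.1)).appTop := by
        rw [morphismRestrict_appTop]
        have : IsIso (v.app ((π' ⁻¹ᵁ W.1).ι ''ᵁ ⊤)) := by rw [Scheme.Opens.ι_image_top]; exact hiso
        infer_instance
      exact MorLib.Birat.isIso_of_appTop _
    exact (IsZariskiLocalAtTarget.iff_of_iSup_eq_top (P := MorphismProperty.isomorphisms Scheme.{u})
      (fun W : T.affineOpens => π' ⁻¹ᵁ W.1) (by rw [← Scheme.Hom.preimage_iSup, iSup_affineOpens_eq_top]; rfl)).2 key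
  exact IsPullback.of_iso_pullback ⟨hu⟩ (asIso v) (pullback.lift_fst _ _ _) (pullback.lift_snd _ _ _)

end Groth.Agent.HilbPtsRep
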